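import Mathlib

/-!
# Effective descent (helper28): general fpqc covers (not necessarily quasi-compact morphisms)

`GoodCov p`: `p` is flat, surjective, all its base changes are effective epimorphisms and isomorphisms descend along
its base changes.  Every morphism whose singleton presieve is an fpqc covering is such, in particular
`Sigma.desc u` for an fpqc covering family `u`.
-/

set_option autoImplicit false
set_option maxHeartbeats 1600000
set_option backward.isDefEq.respectTransparency false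
set_option backward.isDefEq.respectTransparency.types false
universe u
open CategoryTheory CategoryTheory.Limits AlgebraicGeometry

namespace Groth.Agent.Lib.Helper28.EffDescQ

/-- a flat surjective morphism all of whose base changes are effective epimorphisms along which isomorphisms
descend -/
structure GoodCov {X S : Scheme.{u}} (p : X ⟶ S) : Prop where
  flat : Flat p
  surj : Surjective p
  effEpi : ∀ {Y Z : Scheme.{u}} (g' : Y ⟶ X) (f : Y ⟶ Z) (h' : Z ⟶ S), IsPullback g' f p h' →
    EffectiveEpi f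
  isoDesc : ∀ {Y Z Z' : Scheme.{u}} (g' : Y ⟶ X) (f : Y ⟶ Z) (h' : Z ⟶ S), IsPullback g' f p h' →
    ∀ (k : Z' ⟶ Z) (f' : Y ⟶ Z'), IsPullback (𝟙 Y) f' f k → IsIso k

theorem fpqc_singleton_bc {X S Y Z : Scheme.{u}} {p : X ⟶ S}
    (hp : Presieve.singleton p ∈ Scheme.fpqcPrecoverage S) (g' : Y ⟶ X) (f : Y ⟶ Z) (h' : Z ⟶ S)
    (sq : IsPullback g' f p h') : Presieve.singleton f ∈ Scheme.fpqcPrecoverage Z := by
  rw [← Presieve.ofArrows_pUnit.{0}] at hp ⊢
  exact Precoverage.mem_coverings_of_isPullback (fun _ : PUnit.{1} => p) hp h' (fun _ => f)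
    (fun _ => g') (fun _ => sq.flip)

theorem flat_of_fpqc {Y Z : Scheme.{u}} (f : Y ⟶ Z)
    (hf : Presieve.singleton f ∈ Scheme.fpqcPrecoverage Z) : Flat f :=
  ((Scheme.singleton_mem_precoverage_iff (P := @Flat) f).1 hf.2).2

theorem surjective_of_fpqc {Y Z : Scheme.{u}} (f : Y ⟶ Z)
    (hf : Presieve.singleton f ∈ Scheme.fpqcPrecoverage Z) : Surjective f :=
  ⟨((Scheme.singleton_mem_precoverage_iff (P := @Flat) f).1 hf.2).1⟩

theorem effectiveEpi_of_fpqc {Y Z : Scheme.{u}} (f : Y ⟶ Z)
    (hf : Presieve.singleton f ∈ Scheme.fpqcPrecoverage Z) : EffectiveEpi f := by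
  rw [← Sieve.effectiveEpimorphic_singleton,
    Presieve.EffectiveEpimorphic.iff_forall_isSheafFor_yoneda]
  intro W
  exact (GrothendieckTopology.Subcanonical.isSheaf_of_isRepresentable
    (J := Scheme.fpqcTopology) _).isSheafFor _ (Precoverage.generate_mem_toGrothendieck hf)

/-- isomorphisms descend along fpqc covers: affine-local form -/
theorem isIso_snd_of_fpqc_cover {Y Z Z' O : Scheme.{u}} (f : Y ⟶ Z)
    (hf : Presieve.singleton f ∈ Scheme.fpqcPrecoverage Z) (k : Z' ⟶ Z) (f' : Y ⟶ Z')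
    (sq : IsPullback (𝟙 Y) f' f k) (o : O ⟶ Z) [IsAffine O] : IsIso (pullback.snd k o) := by
  change MorphismProperty.isomorphisms Scheme.{u} (pullback.snd k o)
  have hfO : Presieve.singleton (pullback.snd f o) ∈ Scheme.fpqcPrecoverage (O) :=
    fpqc_singleton_bc hf (pullback.fst f o) (pullback.snd f o) o (IsPullback.of_hasPullback f o)
  haveI : Flat (pullback.snd f o) := flat_of_fpqc _ hfO
  have hqc : QuasiCompactCover (PreZeroHypercover.singleton.{0} (pullback.snd f o)) := by
    rw [← Scheme.presieve₀_mem_qcPrecoverage_iff, PreZeroHypercover.presieve₀_singleton]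
    exact hfO.1
  obtain ⟨n, idx, V, hV, hcov⟩ := QuasiCompactCover.exists_isAffineOpen_of_isCompact
    (PreZeroHypercover.singleton.{0} (pullback.snd f o))
    (show IsCompact (⊤ : TopologicalSpace.Opens (O)).carrier from isCompact_univ)
  change ∀ r, (pullback f o).Opens at V
  haveI : ∀ r, IsAffine ((V r : (pullback f o).Opens) : Scheme.{u}) := hV
  obtain ⟨m, hm⟩ : ∃ m : (∐ fun r : Fin n => ((V r : (pullback f o).Opens) : Scheme.{u})) ⟶ O,
      m = Sigma.desc (fun r => (V r).ι ≫ pullback.snd f o) := ⟨_, rfl⟩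
  obtain ⟨ψ, hψ⟩ : ∃ ψ : (∐ fun r : Fin n => ((V r : (pullback f o).Opens) : Scheme.{u})) ⟶ Y,
      ψ = Sigma.desc (fun r => (V r).ι ≫ pullback.fst f o) := ⟨_, rfl⟩
  have hψm : ψ ≫ f = m ≫ o := by
    rw [hψ, hm]
    apply Sigma.hom_ext
    intro r
    rw [Sigma.ι_desc_assoc, Sigma.ι_desc_assoc, Category.assoc, Category.assoc, pullback.condition]
  haveI : Flat m := by
    rw [hm]
    exact IsZariskiLocalAtSource.sigmaDesc (fun r => inferInstance)
  haveI : Surjective m := by
    refine ⟨fun s => ?_⟩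
    have hs : s ∈ ((⊤ : TopologicalSpace.Opens O) : Set O) := trivial
    rw [← hcov] at hs
    obtain ⟨r, y, hy, hys⟩ := Set.mem_iUnion.mp hs
    refine ⟨(Sigma.ι (fun r : Fin n => ((V r : (pullback f o).Opens) : Scheme.{u})) r) ⟨y, hy⟩, ?_⟩
    rw [hm, ← Scheme.Hom.comp_apply, Sigma.ι_desc, Scheme.Hom.comp_apply]
    exact hys
  haveI : QuasiCompact m := (HasAffineProperty.iff_of_isAffine (P := @QuasiCompact)).mpr inferInstance
  have hQ : (@Surjective ⊓ @Flat ⊓ @QuasiCompact : MorphismProperty Scheme.{u}) m :=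
    ⟨⟨inferInstance, inferInstance⟩, inferInstance⟩
  have h₁ : IsPullback (𝟙 _) ψ ψ (𝟙 Y) := IsPullback.of_horiz_isIso ⟨by simp⟩
  have big : IsPullback (𝟙 _) (ψ ≫ f') (m ≫ o) k := by
    have := h₁.paste_vert sq
    rwa [hψm] at this
  have hfk : f' ≫ k = f := by
    have := sq.w
    rw [Category.id_comp] at this
    exact this.symm
  have hl : (ψ ≫ f') ≫ k = m ≫ o := by rw [Category.assoc, hfk, hψm]
  have sqA : IsPullback (pullback.lift (ψ ≫ f') m hl) (𝟙 _) (pullback.snd k o) m := by
    refine IsPullback.of_right ?_ ?_ (IsPullback.of_hasPullback k o)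
    · rw [pullback.lift_fst]
      exact big.flip
    · rw [pullback.lift_snd, Category.id_comp]
  exact MorphismProperty.of_isPullback_of_descendsAlong
    (P := MorphismProperty.isomorphisms Scheme.{u})
    (Q := (@Surjective ⊓ @Flat ⊓ @QuasiCompact : MorphismProperty Scheme.{u})) sqA.flip hQ
    (MorphismProperty.isomorphisms.infer_property (𝟙 _))

/-- isomorphisms descend along fpqc covers -/
theorem isIso_of_fpqc_cover {Y Z Z' : Scheme.{u}} (f : Y ⟶ Z)
    (hf : Presieve.singleton f ∈ Scheme.fpqcPrecoverage Z) (k : Z' ⟶ Z) (f' : Y ⟶ Z')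
    (sq : IsPullback (𝟙 Y) f' f k) : IsIso k := by
  change MorphismProperty.isomorphisms Scheme.{u} k
  refine IsZariskiLocalAtTarget.of_openCover (P := MorphismProperty.isomorphisms Scheme.{u})
    Z.affineCover (fun i => ?_)
  change IsIso (pullback.snd k (Z.affineCover.f i))
  exact isIso_snd_of_fpqc_cover f hf k f' sq (Z.affineCover.f i)

theorem goodCov_of_fpqc {X S : Scheme.{u}} (p : X ⟶ S)
    (hp : Presieve.singleton p ∈ Scheme.fpqcPrecoverage S) : GoodCov p where
  flat := flat_of_fpqc p hp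
  surj := surjective_of_fpqc p hp
  effEpi g' f h' sq := effectiveEpi_of_fpqc f (fpqc_singleton_bc hp g' f h' sq)
  isoDesc g' f h' sq k f' sq' := isIso_of_fpqc_cover f (fpqc_singleton_bc hp g' f h' sq) k f' sq'

theorem singleton_sigmaDesc_mem {S : Scheme.{u}} {ι : Type u} {U : ι → Scheme.{u}} (u : ∀ i, U i ⟶ S)
    (hu : Presieve.ofArrows U u ∈ Scheme.fpqcPrecoverage S) :
    Presieve.singleton (Sigma.desc u) ∈ Scheme.fpqcPrecoverage S := by
  have h2 := (Scheme.ofArrows_mem_precoverage_iff (P := @Flat)).1 hu.2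
  refine ⟨?_, ?_⟩
  · have hqc : QuasiCompactCover (PreZeroHypercover.mk ι U u) :=
      Scheme.presieve₀_mem_qcPrecoverage_iff.mp hu.1
    have : QuasiCompactCover (PreZeroHypercover.singleton.{0} (Sigma.desc u)) :=
      QuasiCompactCover.of_hom (𝒱 := PreZeroHypercover.mk ι U u)
        ⟨fun _ => PUnit.unit, fun i => Sigma.ι U i, fun i => Sigma.ι_desc u i⟩
    have h3 := Scheme.presieve₀_mem_qcPrecoverage_iff.mpr this
    rwa [PreZeroHypercover.presieve₀_singleton] at h3
  · rw [Scheme.singleton_mem_precoverage_iff]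
    refine ⟨fun s => ?_, IsZariskiLocalAtSource.sigmaDesc (fun i => h2.2 i)⟩
    obtain ⟨i, y, hy⟩ := h2.1 s
    exact ⟨Sigma.ι U i y, by rw [← Scheme.Hom.comp_apply, Sigma.ι_desc]; exact hy⟩

theorem goodCov_sigmaDesc {S : Scheme.{u}} {ι : Type u} {U : ι → Scheme.{u}} (u : ∀ i, U i ⟶ S)
    (hu : Presieve.ofArrows U u ∈ Scheme.fpqcPrecoverage S) : GoodCov (Sigma.desc u) :=
  goodCov_of_fpqc _ (singleton_sigmaDesc_mem u hu)

end Groth.Agent.Lib.Helper28.EffDescQ
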