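import Groth.Agent.Lib.Helper28.EffDesc.GlueAbs
import Groth.Agent.Lib.Helper28.EffDescQ.GoodCov

/-!
# Effective descent (helper28): gluing cartesian quotients over a locally directed open cover of the base,
for a `GoodCov` (copy of `EffDesc/GlueAbs.lean` without the quasi-compactness of `p`)
-/

set_option autoImplicit false
set_option maxHeartbeats 1600000
set_option backward.isDefEq.respectTransparency false
set_option backward.isDefEq.respectTransparency.types false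
universe u
open CategoryTheory CategoryTheory.Limits AlgebraicGeometry

namespace Groth.Agent.Lib.Helper28.EffDescQ

theorem isIso_of_two_quot {V X S U₁ U₂ : Scheme.{u}} {α : V ⟶ X} {p : X ⟶ S} (hp : GoodCov p)
    {q₁ : V ⟶ U₁} {s₁ : U₁ ⟶ S} {q₂ : V ⟶ U₂} {s₂ : U₂ ⟶ S}
    (h₁ : IsPullback α q₁ p s₁) (h₂ : IsPullback α q₂ p s₂) (k : U₁ ⟶ U₂) (hk : q₁ ≫ k = q₂)
    (hs : k ≫ s₂ = s₁) : IsIso k := by
  have h₁' : IsPullback (𝟙 V ≫ α) q₁ p (k ≫ s₂) := by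
    rw [Category.id_comp, hs]; exact h₁
  have sq : IsPullback (𝟙 V) q₁ q₂ k :=
    IsPullback.of_right h₁' (by rw [Category.id_comp, hk]) h₂
  exact hp.isoDesc α q₂ s₂ h₂ k q₁ sq

section Glue

variable {V X S : Scheme.{u}}

section Data

variable (a : V ⟶ X) (p : X ⟶ S) (hp : GoodCov p)
  (𝒰 : S.OpenCover) [Category 𝒰.I₀] [𝒰.LocallyDirected]
  (U : 𝒰.I₀ → Scheme.{u}) (u : ∀ i, U i ⟶ 𝒰.X i)
  (q : ∀ i, pullback (a ≫ p) (𝒰.f i) ⟶ U i)
  (hpb : ∀ i, IsPullback (pullback.fst (a ≫ p) (𝒰.f i) ≫ a) (q i) p (u i ≫ 𝒰.f i))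
  (τ : ∀ {i j : 𝒰.I₀}, (i ⟶ j) → (U i ⟶ U j))
  (hτ : ∀ {i j : 𝒰.I₀} (hij : i ⟶ j), q i ≫ τ hij = EffDesc.tmap 𝒰 (a ≫ p) hij ≫ q j)

include hp hpb in
theorem epi_qi (i : 𝒰.I₀) : Epi (q i) := by
  have := hp.flat
  have := hp.surj
  have : Flat (q i) := MorphismProperty.of_isPullback (P := @Flat) (hpb i) inferInstance
  have : Surjective (q i) := MorphismProperty.of_isPullback (P := @Surjective) (hpb i) inferInstance
  exact Flat.epi_of_flat_of_surjective (q i)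

include hp hpb in
theorem qi_ui (i : 𝒰.I₀) : q i ≫ u i = pullback.snd (a ≫ p) (𝒰.f i) := by
  rw [← cancel_mono (𝒰.f i), Category.assoc, ← (hpb i).w, Category.assoc, pullback.condition]

include hp hpb hτ in
theorem tau_nat {i j : 𝒰.I₀} (hij : i ⟶ j) : τ hij ≫ u j = u i ≫ 𝒰.trans hij := by
  have := epi_qi a p hp 𝒰 U u q hpb i
  rw [← cancel_epi (q i), ← Category.assoc, hτ, Category.assoc, qi_ui a p hp 𝒰 U u q hpb, EffDesc.tmap_snd,
    ← Category.assoc, qi_ui a p hp 𝒰 U u q hpb]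

include hp hpb hτ in
theorem tau_id (i : 𝒰.I₀) : τ (𝟙 i) = 𝟙 (U i) := by
  have := epi_qi a p hp 𝒰 U u q hpb i
  rw [← cancel_epi (q i), hτ, EffDesc.tmap_id, Category.id_comp, Category.comp_id]

include hp hpb hτ in
theorem tau_comp {i j k : 𝒰.I₀} (hij : i ⟶ j) (hjk : j ⟶ k) : τ (hij ≫ hjk) = τ hij ≫ τ hjk := by
  have := epi_qi a p hp 𝒰 U u q hpb i
  rw [← cancel_epi (q i), hτ, EffDesc.tmap_comp, Category.assoc, ← hτ hjk, ← Category.assoc, ← hτ hij,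
    Category.assoc]

include hp hpb hτ in
theorem tau_equi {i j : 𝒰.I₀} (hij : i ⟶ j) : IsPullback (τ hij) (u i) (u j) (𝒰.trans hij) := by
  have hqu := qi_ui a p hp 𝒰 U u q hpb
  have hnat := tau_nat a p hp 𝒰 U u q hpb τ hτ hij
  suffices hk : IsIso (pullback.lift (τ hij) (u i) hnat) from
    IsPullback.of_iso_pullback ⟨hnat⟩ (asIso (pullback.lift (τ hij) (u i) hnat))
      (pullback.lift_fst _ _ _) (pullback.lift_snd _ _ _)
  have big : IsPullback (EffDesc.tmap 𝒰 (a ≫ p) hij ≫ pullback.fst (a ≫ p) (𝒰.f j))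
      (pullback.snd (a ≫ p) (𝒰.f i)) (a ≫ p) (𝒰.trans hij ≫ 𝒰.f j) := by
    rw [EffDesc.tmap_fst, 𝒰.trans_map]; exact IsPullback.of_hasPullback _ _
  have left : IsPullback (EffDesc.tmap 𝒰 (a ≫ p) hij) (pullback.snd (a ≫ p) (𝒰.f i))
      (pullback.snd (a ≫ p) (𝒰.f j)) (𝒰.trans hij) :=
    IsPullback.of_right big (EffDesc.tmap_snd 𝒰 (a ≫ p) hij) (IsPullback.of_hasPullback _ _)
  have hc : (EffDesc.tmap 𝒰 (a ≫ p) hij ≫ q j) ≫ u j = pullback.snd (a ≫ p) (𝒰.f i) ≫ 𝒰.trans hij := by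
    rw [Category.assoc, hqu, EffDesc.tmap_snd]
  have top : IsPullback (EffDesc.tmap 𝒰 (a ≫ p) hij)
      (pullback.lift (EffDesc.tmap 𝒰 (a ≫ p) hij ≫ q j) (pullback.snd (a ≫ p) (𝒰.f i)) hc) (q j)
      (pullback.fst (u j) (𝒰.trans hij)) := by
    refine IsPullback.of_bot ?_ (pullback.lift_fst _ _ _).symm
      (IsPullback.of_hasPullback (u j) (𝒰.trans hij))
    rw [pullback.lift_snd, hqu]
    exact left
  have sq2 : IsPullback (pullback.fst (a ≫ p) (𝒰.f i) ≫ a)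
      (pullback.lift (EffDesc.tmap 𝒰 (a ≫ p) hij ≫ q j) (pullback.snd (a ≫ p) (𝒰.f i)) hc) p
      (pullback.fst (u j) (𝒰.trans hij) ≫ u j ≫ 𝒰.f j) := by
    have := top.paste_horiz (hpb j)
    rw [← Category.assoc, EffDesc.tmap_fst] at this
    exact this
  refine isIso_of_two_quot hp (hpb i) sq2 _ ?_ ?_
  · apply pullback.hom_ext
    · rw [Category.assoc, pullback.lift_fst, pullback.lift_fst, hτ]
    · rw [Category.assoc, pullback.lift_snd, pullback.lift_snd, hqu]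
  · rw [← Category.assoc, pullback.lift_fst, ← Category.assoc, hnat, Category.assoc, 𝒰.trans_map]

/-- the relative gluing datum of the local quotients -/
noncomputable def quotGlueData : 𝒰.RelativeGluingData where
  functor :=
    { obj := U
      map := fun {i j} hij => τ hij
      map_id := fun i => tau_id a p hp 𝒰 U u q hpb τ hτ i
      map_comp := fun {i j k} hij hjk => tau_comp a p hp 𝒰 U u q hpb τ hτ hij hjk }
  natTrans := { app := u, naturality := fun {i j} hij => tau_nat a p hp 𝒰 U u q hpb τ hτ hij }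
  equifibered := fun {i j} hij => tau_equi a p hp 𝒰 U u q hpb τ hτ hij

variable [Small.{u} 𝒰.I₀] [Quiver.IsThin 𝒰.I₀]

include hp hpb hτ in
theorem glue_quot_aux :
    ∃ (U' : Scheme.{u}) (u' : U' ⟶ S) (q' : V ⟶ U'), IsPullback a q' p u' ∧
      ∀ i, ∃ ι : U i ⟶ U', pullback.fst (a ≫ p) (𝒰.f i) ≫ q' = q i ≫ ι := by
  have hqu := qi_ui a p hp 𝒰 U u q hpb
  have hcompat : ∀ {i j : 𝒰.I₀} (hij : i ⟶ j),
      Scheme.Cover.trans (𝒰.pullback₁ (a ≫ p)) hij ≫ q j ≫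
        colimit.ι (quotGlueData a p hp 𝒰 U u q hpb τ hτ).functor j =
      q i ≫ colimit.ι (quotGlueData a p hp 𝒰 U u q hpb τ hτ).functor i := by
    intro i j hij
    rw [EffDesc.tmap_eq, ← Category.assoc, ← hτ hij, Category.assoc]
    congr 1
    exact colimit.w (quotGlueData a p hp 𝒰 U u q hpb τ hτ).functor hij
  obtain ⟨q', hq'⟩ : ∃ q' : V ⟶ (quotGlueData a p hp 𝒰 U u q hpb τ hτ).glued, ∀ i,
      pullback.fst (a ≫ p) (𝒰.f i) ≫ q' =
        q i ≫ colimit.ι (quotGlueData a p hp 𝒰 U u q hpb τ hτ).functor i :=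
    ⟨Scheme.OpenCover.glueMorphismsOfLocallyDirected (𝒰.pullback₁ (a ≫ p))
      (fun i => q i ≫ colimit.ι (quotGlueData a p hp 𝒰 U u q hpb τ hτ).functor i)
      (fun {i j} hij => hcompat hij),
      fun i => Scheme.OpenCover.map_glueMorphismsOfLocallyDirected (𝒰.pullback₁ (a ≫ p)) _ _ i⟩
  have hw : a ≫ p = q' ≫ (quotGlueData a p hp 𝒰 U u q hpb τ hτ).toBase := by
    apply Scheme.Cover.hom_ext (𝒰.pullback₁ (a ≫ p))
    intro i
    change pullback.fst (a ≫ p) (𝒰.f i) ≫ a ≫ p =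
      pullback.fst (a ≫ p) (𝒰.f i) ≫ q' ≫ (quotGlueData a p hp 𝒰 U u q hpb τ hτ).toBase
    rw [← Category.assoc _ q', hq' i, Category.assoc,
      Scheme.Cover.RelativeGluingData.ι_toBase, pullback.condition]
    change _ = q i ≫ u i ≫ 𝒰.f i
    rw [← Category.assoc, hqu]
  refine ⟨(quotGlueData a p hp 𝒰 U u q hpb τ hτ).glued, (quotGlueData a p hp 𝒰 U u q hpb τ hτ).toBase, q',
    ?_, fun i => ⟨colimit.ι (quotGlueData a p hp 𝒰 U u q hpb τ hτ).functor i, hq' i⟩⟩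
  exact EffDesc.isPullback_of_local a q' p (quotGlueData a p hp 𝒰 U u q hpb τ hτ).toBase hw 𝒰
    (quotGlueData a p hp 𝒰 U u q hpb τ hτ).cover (fun i => i) (fun i => u i)
    (fun i => ((quotGlueData a p hp 𝒰 U u q hpb τ hτ).isPullback_natTrans_ι_toBase i).flip) q
    (fun i => (hq' i).symm) hpb

end Data

theorem glue_quot (a : V ⟶ X) (p : X ⟶ S) (hp : GoodCov p)
    (𝒰 : S.OpenCover) [Category 𝒰.I₀] [𝒰.LocallyDirected] [Small.{u} 𝒰.I₀] [Quiver.IsThin 𝒰.I₀]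
    (U : 𝒰.I₀ → Scheme.{u}) (u : ∀ i, U i ⟶ 𝒰.X i)
    (q : ∀ i, pullback (a ≫ p) (𝒰.f i) ⟶ U i)
    (hpb : ∀ i, IsPullback (pullback.fst (a ≫ p) (𝒰.f i) ≫ a) (q i) p (u i ≫ 𝒰.f i))
    (hτ : ∀ {i j : 𝒰.I₀} (hij : i ⟶ j), ∃ τ : U i ⟶ U j, q i ≫ τ = EffDesc.tmap 𝒰 (a ≫ p) hij ≫ q j) :
    ∃ (U' : Scheme.{u}) (u' : U' ⟶ S) (q' : V ⟶ U'), IsPullback a q' p u' ∧
      ∀ i, ∃ ι : U i ⟶ U', pullback.fst (a ≫ p) (𝒰.f i) ≫ q' = q i ≫ ι := by
  choose τ hτ using @hτ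
  exact glue_quot_aux a p hp 𝒰 U u q hpb (fun {i j} hij => τ hij) (fun {i j} hij => hτ hij)

end Glue

end Groth.Agent.Lib.Helper28.EffDescQ
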