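import Groth.Agent.Lib.Helper28.EffDesc.Transfer2
import Groth.Agent.Lib.Helper28.EffDesc.Section
import Groth.Agent.Lib.Helper28.EffDescQ.Glue

/-!
# Effective descent (helper28): morphisms with (local) sections

* `quot_of_section`: a descent datum relative to a morphism with a section has a cartesian invariant quotient.
* `localQuot_of_section`: local quotients over the part of the base over which the morphism has a section.
* `exists_quot_of_local_basis`: local quotients over the members of a basis of the base glue.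
* `exists_quot_of_local_sections_good`: descent data relative to a `GoodCov` with Zariski-local sections have
  cartesian invariant quotients.
-/

set_option autoImplicit false
set_option maxHeartbeats 1600000
set_option backward.isDefEq.respectTransparency false
set_option backward.isDefEq.respectTransparency.types false
universe u
open CategoryTheory CategoryTheory.Limits AlgebraicGeometry

namespace Groth.Agent.Lib.Helper28.EffDescQ

open Desc Groth.Agent.Lib.Helper28.EffDesc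

variable {X S : Scheme.{u}} {p : X ⟶ S}

/-- a descent datum relative to a morphism with a section has a cartesian invariant quotient -/
theorem quot_of_section (D : SchDD p) (s : S ⟶ X) (hs : s ≫ p = 𝟙 S) :
    ∃ (U : Scheme.{u}) (u : U ⟶ S) (q : D.obj.left ⟶ U), IsPullback D.obj.hom q p u ∧ IsInv D q := by
  obtain ⟨c, hc⟩ : ∃ c : D.obj.left ⟶ S, c = D.obj.hom ≫ p := ⟨_, rfl⟩
  have hcs : ∀ {T : Scheme.{u}} (t : T ⟶ D.obj.left), (t ≫ c ≫ s) ≫ p = t ≫ c := by
    intro T t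
    rw [Category.assoc, Category.assoc, hs, Category.comp_id]
  have h10 : D.obj.hom ≫ p = (c ≫ s) ≫ p := by
    rw [Category.assoc, hs, Category.comp_id, hc]
  obtain ⟨m, hm⟩ : ∃ m : D.obj.left ⟶ D.obj.left,
      m = (D.φ D.obj.hom (c ≫ s) h10 ⟨𝟙 _, Category.id_comp _⟩).1 := ⟨_, rfl⟩
  have hma : m ≫ D.obj.hom = c ≫ s := by
    rw [hm]
    exact phi_hom D _ _ h10 _
  have hmt : ∀ {T : Scheme.{u}} (t : T ⟶ D.obj.left) (x₀ x₁ : T ⟶ X) (h : x₀ ≫ p = x₁ ≫ p)
      (v : Lifts D.obj x₀), t = v.1 → t ≫ c ≫ s = x₁ → t ≫ m = (D.φ x₀ x₁ h v).1 := by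
    intro T t x₀ x₁ h v hv hx₁
    have hx₀ : t ≫ D.obj.hom = x₀ := by
      rw [hv]
      exact v.2
    rw [hm]
    exact (phi_natural' D t D.obj.hom (c ≫ s) h10 x₀ x₁ hx₀ hx₁ h ⟨𝟙 _, Category.id_comp _⟩ v
      (by rw [Category.comp_id]; exact hv.symm)).symm
  obtain ⟨q, hq1, hq2⟩ : ∃ q : D.obj.left ⟶ pullback D.obj.hom s,
      q ≫ pullback.fst D.obj.hom s = m ∧ q ≫ pullback.snd D.obj.hom s = c :=
    ⟨pullback.lift m c hma, pullback.lift_fst _ _ _, pullback.lift_snd _ _ _⟩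
  refine ⟨pullback D.obj.hom s, pullback.snd D.obj.hom s, q, ?_, ?_⟩
  · refine isPullback_of_ex_uniq ?_ ?_ ?_
    · rw [hq2, hc]
    · intro T x y hxy
      have hz : (y ≫ pullback.snd D.obj.hom s ≫ s) ≫ p = x ≫ p := by
        rw [Category.assoc, Category.assoc, hs, Category.comp_id, hxy]
      obtain ⟨v₀, hv₀⟩ : ∃ v₀ : Lifts D.obj (y ≫ pullback.snd D.obj.hom s ≫ s),
          v₀.1 = y ≫ pullback.fst D.obj.hom s := by
        refine ⟨⟨y ≫ pullback.fst D.obj.hom s, ?_⟩, rfl⟩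
        rw [Category.assoc, pullback.condition]
      have hφx : (D.φ _ _ hz v₀).1 ≫ D.obj.hom = x := phi_hom D _ _ hz v₀
      have hwc : (D.φ _ _ hz v₀).1 ≫ c = y ≫ pullback.snd D.obj.hom s := by
        rw [hc, ← Category.assoc, hφx, hxy]
      have hwcs : (D.φ _ _ hz v₀).1 ≫ c ≫ s = y ≫ pullback.snd D.obj.hom s ≫ s := by
        rw [← Category.assoc, hwc, Category.assoc]
      refine ⟨(D.φ _ _ hz v₀).1, hφx, ?_⟩
      apply pullback.hom_ext
      · rw [Category.assoc, hq1]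
        have e := hmt (D.φ _ _ hz v₀).1 x (y ≫ pullback.snd D.obj.hom s ≫ s) hz.symm (D.φ _ _ hz v₀)
          rfl hwcs
        rw [e, D.φ_comp, D.φ_self, hv₀]
      · rw [Category.assoc, hq2, hwc]
    · intro T l l' h1 h2
      have hcc : l ≫ c = l' ≫ c := by
        have := congrArg (fun g => g ≫ pullback.snd D.obj.hom s) h2
        simpa only [Category.assoc, hq2] using this
      have hmm : l ≫ m = l' ≫ m := by
        have := congrArg (fun g => g ≫ pullback.fst D.obj.hom s) h2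
        simpa only [Category.assoc, hq1] using this
      have hp1 : (l ≫ D.obj.hom) ≫ p = (l ≫ c ≫ s) ≫ p := by
        rw [hcs l, hc, Category.assoc]
      obtain ⟨v, hv⟩ : ∃ v : Lifts D.obj (l ≫ D.obj.hom), v.1 = l := ⟨⟨l, rfl⟩, rfl⟩
      obtain ⟨v', hv'⟩ : ∃ v' : Lifts D.obj (l ≫ D.obj.hom), v'.1 = l' := ⟨⟨l', h1.symm⟩, rfl⟩
      have e1 := hmt l _ _ hp1 v hv.symm rfl
      have e2 := hmt l' _ _ hp1 v' hv'.symm
        (by rw [← Category.assoc, ← hcc, Category.assoc])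
      have e3 : D.φ _ _ hp1 v = D.φ _ _ hp1 v' := Subtype.ext (e1.symm.trans (hmm.trans e2))
      have e4 : v = v' := (D.φ _ _ hp1).injective e3
      rw [← hv, ← hv', e4]
  · intro T x₀ x₁ h v
    have hv2 : v.1 ≫ D.obj.hom = x₀ := v.2
    have hr2 : (D.φ x₀ x₁ h v).1 ≫ D.obj.hom = x₁ := phi_hom D _ _ h _
    have hcc : (D.φ x₀ x₁ h v).1 ≫ c = v.1 ≫ c := by
      rw [hc, ← Category.assoc, hr2, ← Category.assoc, hv2, h]
    have h₀ : x₀ ≫ p = (v.1 ≫ c ≫ s) ≫ p := by
      rw [hcs v.1, hc, ← Category.assoc, hv2]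
    have h₁ : x₁ ≫ p = (v.1 ≫ c ≫ s) ≫ p := h.symm.trans h₀
    have e1 := hmt v.1 x₀ _ h₀ v rfl rfl
    have e2 := hmt (D.φ x₀ x₁ h v).1 x₁ _ h₁ (D.φ x₀ x₁ h v) rfl
      (by rw [← Category.assoc, hcc, Category.assoc])
    apply pullback.hom_ext
    · rw [Category.assoc, Category.assoc, hq1, e1, e2, D.φ_comp]
    · rw [Category.assoc, Category.assoc, hq2, hcc]

/-- local quotients over the part of the base over which the morphism has a section -/
theorem localQuot_of_section (D : SchDD p) {S₁ : Scheme.{u}} (j : S₁ ⟶ S) (s : S₁ ⟶ X)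
    (hs : s ≫ p = j) : LocalQuot D j := by
  have w : pullback.snd p j ≫ j = pullback.fst p j ≫ p := pullback.condition.symm
  obtain ⟨σ, hσ1, hσ2⟩ : ∃ σ : S₁ ⟶ pullback p j, σ ≫ pullback.fst p j = s ∧
      σ ≫ pullback.snd p j = 𝟙 S₁ :=
    ⟨pullback.lift s (𝟙 _) (by rw [hs, Category.id_comp]), pullback.lift_fst _ _ _,
      pullback.lift_snd _ _ _⟩
  obtain ⟨U', u', q', hpb', hinv'⟩ := quot_of_section (pullDD (pullback.fst p j) j w D) σ hσ2
  exact transfer (pullback.fst p j) j w D (𝟙 _) (Category.id_comp _) (Category.id_comp _) u' q'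
    hpb' hinv'

/-- the open cover of `S` by the members of a basis of its topology -/
@[simps I₀ X f]
def basisCover (S : Scheme.{u}) (B : Set S.Opens) (hB : TopologicalSpace.Opens.IsBasis B) :
    S.OpenCover where
  I₀ := B
  X U := U.1
  f U := U.1.ι
  mem₀ := by
    rw [Scheme.presieve₀_mem_precoverage_iff]
    refine ⟨fun x => ?_, inferInstance⟩
    obtain ⟨W, hW, hxW, -⟩ := TopologicalSpace.Opens.isBasis_iff_nbhd.mp hB
      (TopologicalSpace.Opens.mem_top x)
    use ⟨W, hW⟩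
    simpa using hxW

instance (S : Scheme.{u}) (B : Set S.Opens) (hB : TopologicalSpace.Opens.IsBasis B) :
    Preorder (basisCover S B hB).I₀ := inferInstanceAs (Preorder B)

noncomputable instance (S : Scheme.{u}) (B : Set S.Opens) (hB : TopologicalSpace.Opens.IsBasis B) :
    Scheme.Cover.LocallyDirected (basisCover S B hB) :=
  .ofIsBasisOpensRange (by intros; simp) <| by
    convert hB
    simp only [basisCover_f, Scheme.Opens.opensRange_ι]
    exact Subtype.range_coe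

variable (D : SchDD p)

/-- local quotients over the members of a basis of the base glue to a global quotient -/
theorem exists_quot_of_local_basis (hp : GoodCov p) (B : Set S.Opens)
    (hB : TopologicalSpace.Opens.IsBasis B) (hloc : ∀ W : B, EffDesc.LocalQuot D W.1.ι) :
    ∃ (U : Scheme.{u}) (u : U ⟶ S) (q : D.obj.left ⟶ U), IsPullback D.obj.hom q p u ∧ EffDesc.IsInv D q := by
  choose U u q hpb hinv using hloc
  have : Small.{u} (basisCover S B hB).I₀ := inferInstanceAs (Small.{u} B)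
  have hτ : ∀ {i j : (basisCover S B hB).I₀} (hij : i ⟶ j), ∃ τ : U i ⟶ U j,
      q i ≫ τ = EffDesc.tmap (basisCover S B hB) (D.obj.hom ≫ p) hij ≫ q j := by
    intro i j hij
    refine local_desc D hp ((basisCover S B hB).f i) (u i) (q i) (hpb i) (hinv i) _ ?_
    intro T x₀ x₁ h v v₁ w₁ hv hw hs
    rw [← Category.assoc, ← Category.assoc]
    refine hinv j x₀ x₁ h v (v₁ ≫ EffDesc.tmap (basisCover S B hB) (D.obj.hom ≫ p) hij)
      (w₁ ≫ EffDesc.tmap (basisCover S B hB) (D.obj.hom ≫ p) hij) ?_ ?_ ?_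
    · rw [Category.assoc]
      exact (congrArg (v₁ ≫ ·) (EffDesc.tmap_fst (basisCover S B hB) (D.obj.hom ≫ p) hij)).trans hv
    · rw [Category.assoc]
      exact (congrArg (w₁ ≫ ·) (EffDesc.tmap_fst (basisCover S B hB) (D.obj.hom ≫ p) hij)).trans hw
    · rw [Category.assoc, Category.assoc]
      refine (congrArg (v₁ ≫ ·) (EffDesc.tmap_snd (basisCover S B hB) (D.obj.hom ≫ p) hij)).trans ?_
      refine Eq.trans ?_ (congrArg (w₁ ≫ ·) (EffDesc.tmap_snd (basisCover S B hB) (D.obj.hom ≫ p) hij)).symm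
      exact (Category.assoc _ _ _).symm.trans
        ((congrArg (· ≫ (basisCover S B hB).trans hij) hs).trans (Category.assoc _ _ _))
  obtain ⟨U', u', q', hPB, hι⟩ :=
    glue_quot D.obj.hom p hp (basisCover S B hB) U u q hpb hτ
  refine ⟨U', u', q', hPB, ?_⟩
  intro T x₀ x₁ h v
  apply Scheme.Cover.hom_ext ((basisCover S B hB).pullback₁ (x₀ ≫ p))
  intro i
  obtain ⟨ι, hιi⟩ := hι i
  change pullback.fst (x₀ ≫ p) i.1.ι ≫ (D.φ x₀ x₁ h v).1 ≫ q' =
    pullback.fst (x₀ ≫ p) i.1.ι ≫ v.1 ≫ q'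
  have h' : (pullback.fst (x₀ ≫ p) i.1.ι ≫ x₀) ≫ p = (pullback.fst (x₀ ≫ p) i.1.ι ≫ x₁) ≫ p := by
    rw [Category.assoc, Category.assoc, h]
  obtain ⟨v', hv'⟩ : ∃ v' : Lifts D.obj (pullback.fst (x₀ ≫ p) i.1.ι ≫ x₀),
      v'.1 = pullback.fst (x₀ ≫ p) i.1.ι ≫ v.1 :=
    ⟨⟨pullback.fst (x₀ ≫ p) i.1.ι ≫ v.1, by rw [Category.assoc, v.2]⟩, rfl⟩
  have hnat : (D.φ _ _ h' v').1 = pullback.fst (x₀ ≫ p) i.1.ι ≫ (D.φ x₀ x₁ h v).1 :=
    D.φ_natural _ x₀ x₁ h h' v v' hv'
  have c1 : (pullback.fst (x₀ ≫ p) i.1.ι ≫ v.1) ≫ D.obj.hom ≫ p =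
      pullback.snd (x₀ ≫ p) i.1.ι ≫ i.1.ι := by
    rw [Category.assoc, ← Category.assoc v.1, v.2, pullback.condition]
  have c2 : (pullback.fst (x₀ ≫ p) i.1.ι ≫ (D.φ x₀ x₁ h v).1) ≫ D.obj.hom ≫ p =
      pullback.snd (x₀ ≫ p) i.1.ι ≫ i.1.ι := by
    rw [Category.assoc, ← Category.assoc _ D.obj.hom, EffDesc.phi_hom, ← h, pullback.condition]
  have key : pullback.lift _ _ c2 ≫ q i = pullback.lift _ _ c1 ≫ q i :=
    hinv i _ _ h' v' (pullback.lift _ _ c1) (pullback.lift _ _ c2)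
      ((pullback.lift_fst _ _ _).trans hv'.symm) ((pullback.lift_fst _ _ _).trans hnat.symm)
      ((pullback.lift_snd _ _ _).trans (pullback.lift_snd _ _ _).symm)
  have hιi' : pullback.fst (D.obj.hom ≫ p) i.1.ι ≫ q' = q i ≫ ι := hιi
  calc pullback.fst (x₀ ≫ p) i.1.ι ≫ (D.φ x₀ x₁ h v).1 ≫ q'
      = pullback.lift _ _ c2 ≫ pullback.fst (D.obj.hom ≫ p) i.1.ι ≫ q' := by
        rw [← Category.assoc, ← Category.assoc, pullback.lift_fst]
    _ = pullback.lift _ _ c2 ≫ q i ≫ ι := by rw [hιi']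
    _ = pullback.lift _ _ c1 ≫ q i ≫ ι := by rw [← Category.assoc, key, Category.assoc]
    _ = pullback.lift _ _ c1 ≫ pullback.fst (D.obj.hom ≫ p) i.1.ι ≫ q' := by rw [hιi']
    _ = pullback.fst (x₀ ≫ p) i.1.ι ≫ v.1 ≫ q' := by
        rw [← Category.assoc, ← Category.assoc, pullback.lift_fst]


/-- descent data relative to a `GoodCov` with Zariski-local sections have cartesian invariant quotients -/
theorem exists_quot_of_local_sections_good (hp : GoodCov p)
    (hsec : ∀ y : S, ∃ (W : S.Opens) (s : (W : Scheme.{u}) ⟶ X), y ∈ W ∧ s ≫ p = W.ι) :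
    ∃ (U : Scheme.{u}) (u : U ⟶ S) (q : D.obj.left ⟶ U), IsPullback D.obj.hom q p u ∧ IsInv D q := by
  have hB : TopologicalSpace.Opens.IsBasis {W : S.Opens | ∃ s : (W : Scheme.{u}) ⟶ X, s ≫ p = W.ι} := by
    rw [TopologicalSpace.Opens.isBasis_iff_nbhd]
    intro O x hx
    obtain ⟨W, s, hxW, hs⟩ := hsec x
    refine ⟨W ⊓ O, ⟨S.homOfLE (inf_le_left : W ⊓ O ≤ W) ≫ s, ?_⟩, ⟨hxW, hx⟩, inf_le_right⟩
    rw [Category.assoc, hs, Scheme.homOfLE_ι]
  refine exists_quot_of_local_basis D hp _ hB (fun W => ?_)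
  obtain ⟨s, hs⟩ := W.2
  exact localQuot_of_section D W.1.ι s hs

end Groth.Agent.Lib.Helper28.EffDescQ
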