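import Groth.Agent.Lib.Helper28.EffDesc.SheafDesc
import Groth.Agent.Lib.Helper28.EffDescQ.GoodCov

/-!
# Effective descent (helper28): descending a descent datum along a refinement

Let `G : X' ⟶ X` be a `GoodCov`, `p : X ⟶ S` and `D` a descent datum relative to `G ≫ p`.  If the underlying scheme of
`D` descends along `G` (a cartesian quotient `q : D.obj.left ⟶ F` over `a' : F ⟶ X`, invariant under the gluing
bijections over `X`), then `a'` carries a descent datum relative to `p` which pulls back to `D`.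
-/

set_option autoImplicit false
set_option maxHeartbeats 1600000
set_option backward.isDefEq.respectTransparency false
set_option backward.isDefEq.respectTransparency.types false
universe u
open CategoryTheory CategoryTheory.Limits AlgebraicGeometry

namespace Groth.Agent.Lib.Helper28.EffDescQ

open Desc Groth.Agent.Lib.Helper28.EffDesc

variable {X' X S : Scheme.{u}} {G : X' ⟶ X} {p : X ⟶ S}

/-- a descent datum relative to `G ≫ p` is in particular a descent datum relative to `G` -/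
def restrictG (D : SchDD (G ≫ p)) : SchDD G where
  obj := D.obj
  φ T x₀ x₁ h := D.φ x₀ x₁ (by rw [← Category.assoc, h, Category.assoc])
  φ_natural T T' g x₀ x₁ h h' v v' hv' := D.φ_natural g x₀ x₁ _ _ v v' hv'
  φ_self T x v := D.φ_self x v
  φ_comp T x₀ x₁ x₂ h₀₁ h₁₂ v := D.φ_comp x₀ x₁ x₂ _ _ v

/-- a cartesian quotient of the underlying scheme of `D` along `G`, invariant under the gluing bijections over `X` -/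
structure QuotData (D : SchDD (G ≫ p)) where
  F : Scheme.{u}
  a' : F ⟶ X
  q : D.obj.left ⟶ F
  hpb : IsPullback D.obj.hom q G a'
  hinv : ∀ ⦃T : Scheme.{u}⦄ (x₀ x₁ : T ⟶ X') (h : x₀ ≫ G ≫ p = x₁ ≫ G ≫ p), x₀ ≫ G = x₁ ≫ G →
    ∀ v : Lifts D.obj x₀, (D.φ x₀ x₁ h v).1 ≫ q = v.1 ≫ q
  good : GoodCov G

variable {D : SchDD (G ≫ p)} (Q : QuotData D)

theorem QuotData.lift_base {T' T : Scheme.{u}} {t : T' ⟶ T} {c : T ⟶ Q.F} {vl : T' ⟶ D.obj.left}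
    (hvl : vl ≫ Q.q = t ≫ c) : (vl ≫ D.obj.hom) ≫ G ≫ p = t ≫ c ≫ Q.a' ≫ p := by
  have e : vl ≫ D.obj.hom ≫ G = vl ≫ Q.q ≫ Q.a' := by rw [Q.hpb.w]
  calc (vl ≫ D.obj.hom) ≫ G ≫ p = (vl ≫ D.obj.hom ≫ G) ≫ p := by simp only [Category.assoc]
    _ = (vl ≫ Q.q ≫ Q.a') ≫ p := by rw [e]
    _ = ((vl ≫ Q.q) ≫ Q.a') ≫ p := by simp only [Category.assoc]
    _ = ((t ≫ c) ≫ Q.a') ≫ p := by rw [hvl]
    _ = t ≫ c ≫ Q.a' ≫ p := by simp only [Category.assoc]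

theorem QuotData.lift_baseG {T' T : Scheme.{u}} {t : T' ⟶ T} {c : T ⟶ Q.F} {vl : T' ⟶ D.obj.left}
    (hvl : vl ≫ Q.q = t ≫ c) : (vl ≫ D.obj.hom) ≫ G = t ≫ c ≫ Q.a' := by
  have e : vl ≫ D.obj.hom ≫ G = vl ≫ Q.q ≫ Q.a' := by rw [Q.hpb.w]
  calc (vl ≫ D.obj.hom) ≫ G = vl ≫ D.obj.hom ≫ G := Category.assoc _ _ _
    _ = vl ≫ Q.q ≫ Q.a' := e
    _ = (vl ≫ Q.q) ≫ Q.a' := (Category.assoc _ _ _).symm
    _ = (t ≫ c) ≫ Q.a' := by rw [hvl]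
    _ = t ≫ c ≫ Q.a' := Category.assoc _ _ _

/-- two lifts of the same point are related by the gluing bijection -/
theorem QuotData.two_lifts {T' : Scheme.{u}} (vl wl : T' ⟶ D.obj.left)
    (h : (vl ≫ D.obj.hom) ≫ G ≫ p = (wl ≫ D.obj.hom) ≫ G ≫ p) (hq : vl ≫ Q.q = wl ≫ Q.q) :
    (D.φ (vl ≫ D.obj.hom) (wl ≫ D.obj.hom) h ⟨vl, rfl⟩).1 = wl := by
  apply Q.hpb.hom_ext
  · exact phi_hom D _ _ h _
  · have hG' : (vl ≫ D.obj.hom) ≫ G = (wl ≫ D.obj.hom) ≫ G := by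
      have e1 := Q.lift_baseG (t := 𝟙 T') (c := vl ≫ Q.q) (vl := vl) (Category.id_comp _).symm
      have e2 := Q.lift_baseG (t := 𝟙 T') (c := vl ≫ Q.q) (vl := wl) (hq.symm.trans (Category.id_comp _).symm)
      exact e1.trans e2.symm
    exact (Q.hinv _ _ h hG' ⟨vl, rfl⟩).trans hq

/-- the pieces of `T` over which a point of the quotient lifts -/
theorem QuotData.isPullback_fst {T : Scheme.{u}} (c : T ⟶ Q.F) :
    IsPullback (pullback.snd c Q.q ≫ D.obj.hom) (pullback.fst c Q.q) G (c ≫ Q.a') :=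
  (IsPullback.of_hasPullback c Q.q).flip.paste_horiz Q.hpb

theorem QuotData.epi_fst {T : Scheme.{u}} (c : T ⟶ Q.F) : Epi (pullback.fst c Q.q) := by
  have := Q.good.flat
  have := Q.good.surj
  have : Flat (pullback.fst c Q.q) :=
    MorphismProperty.of_isPullback (P := @Flat) (Q.isPullback_fst c) inferInstance
  have : Surjective (pullback.fst c Q.q) :=
    MorphismProperty.of_isPullback (P := @Surjective) (Q.isPullback_fst c) inferInstance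
  exact Flat.epi_of_flat_of_surjective _

theorem QuotData.exists_lift {T : Scheme.{u}} (c : T ⟶ Q.F) :
    ∃ (T' : Scheme.{u}) (π : T' ⟶ T) (vl : T' ⟶ D.obj.left), Epi π ∧ vl ≫ Q.q = π ≫ c :=
  ⟨_, pullback.fst c Q.q, pullback.snd c Q.q, Q.epi_fst c, pullback.condition.symm⟩

/-- the gluing relation on the points of the quotient -/
def DRel ⦃T : Scheme.{u}⦄ (c c' : T ⟶ Q.F) : Prop :=
  c ≫ Q.a' ≫ p = c' ≫ Q.a' ≫ p ∧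
  ∀ ⦃T' : Scheme.{u}⦄ (t : T' ⟶ T) (vl wl : T' ⟶ D.obj.left)
    (h : (vl ≫ D.obj.hom) ≫ G ≫ p = (wl ≫ D.obj.hom) ≫ G ≫ p),
    vl ≫ Q.q = t ≫ c → wl ≫ Q.q = t ≫ c' →
    (D.φ (vl ≫ D.obj.hom) (wl ≫ D.obj.hom) h ⟨vl, rfl⟩).1 = wl

variable {Q}

theorem DRel.refl {T : Scheme.{u}} (c : T ⟶ Q.F) : DRel Q c c :=
  ⟨rfl, fun _ _ vl wl h hvl hwl => Q.two_lifts vl wl h (hvl.trans hwl.symm)⟩

theorem DRel.symm {T : Scheme.{u}} {c c' : T ⟶ Q.F} (hr : DRel Q c c') : DRel Q c' c := by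
  refine ⟨hr.1.symm, ?_⟩
  intro T' t wl vl h hwl hvl
  have key := hr.2 t vl wl h.symm hvl hwl
  have key' : D.φ (vl ≫ D.obj.hom) (wl ≫ D.obj.hom) h.symm ⟨vl, rfl⟩ = ⟨wl, rfl⟩ := Subtype.ext key
  have e2 : D.φ (wl ≫ D.obj.hom) (vl ≫ D.obj.hom) h ⟨wl, rfl⟩ =
      D.φ (vl ≫ D.obj.hom) (vl ≫ D.obj.hom) (h.symm.trans h) ⟨vl, rfl⟩ := by
    rw [← key']
    exact D.φ_comp _ _ _ h.symm h ⟨vl, rfl⟩
  rw [e2]
  exact congrArg Subtype.val (D.φ_self _ ⟨vl, rfl⟩)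

theorem DRel.comp {T T'' : Scheme.{u}} (k : T'' ⟶ T) {c c' : T ⟶ Q.F} (hr : DRel Q c c') :
    DRel Q (k ≫ c) (k ≫ c') := by
  refine ⟨by rw [Category.assoc, Category.assoc, hr.1], ?_⟩
  intro T' t vl wl h hvl hwl
  exact hr.2 (t ≫ k) vl wl h (by rw [hvl, Category.assoc]) (by rw [hwl, Category.assoc])

theorem DRel.trans {T : Scheme.{u}} {c c' c'' : T ⟶ Q.F} (h₁ : DRel Q c c') (h₂ : DRel Q c' c'') :
    DRel Q c c'' := by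
  refine ⟨h₁.1.trans h₂.1, ?_⟩
  intro T' t vl zl h hvl hzl
  obtain ⟨T'', π, wl, hπ, hcond⟩ := Q.exists_lift (t ≫ c')
  rw [← cancel_epi π]
  have hcond' : wl ≫ Q.q = (π ≫ t) ≫ c' := by rw [hcond, Category.assoc]
  have hv' : (π ≫ vl) ≫ Q.q = (π ≫ t) ≫ c := by rw [Category.assoc, hvl, Category.assoc]
  have hz' : (π ≫ zl) ≫ Q.q = (π ≫ t) ≫ c'' := by rw [Category.assoc, hzl, Category.assoc]
  have h01 : ((π ≫ vl) ≫ D.obj.hom) ≫ G ≫ p = (wl ≫ D.obj.hom) ≫ G ≫ p := by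
    rw [Q.lift_base hv', Q.lift_base hcond', h₁.1]
  have h12 : (wl ≫ D.obj.hom) ≫ G ≫ p = ((π ≫ zl) ≫ D.obj.hom) ≫ G ≫ p := by
    rw [Q.lift_base hcond', Q.lift_base hz', h₂.1]
  have k1 := h₁.2 (π ≫ t) (π ≫ vl) wl h01 hv' hcond'
  have k2 := h₂.2 (π ≫ t) wl (π ≫ zl) h12 hcond' hz'
  have k1' : D.φ ((π ≫ vl) ≫ D.obj.hom) (wl ≫ D.obj.hom) h01 ⟨π ≫ vl, rfl⟩ = ⟨wl, rfl⟩ :=
    Subtype.ext k1
  have k3 : D.φ (wl ≫ D.obj.hom) ((π ≫ zl) ≫ D.obj.hom) h12 ⟨wl, rfl⟩ =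
      D.φ ((π ≫ vl) ≫ D.obj.hom) ((π ≫ zl) ≫ D.obj.hom) (h01.trans h12) ⟨π ≫ vl, rfl⟩ := by
    rw [← k1']
    exact D.φ_comp _ _ _ h01 h12 ⟨π ≫ vl, rfl⟩
  have nat := phi_natural' D π (vl ≫ D.obj.hom) (zl ≫ D.obj.hom) h ((π ≫ vl) ≫ D.obj.hom)
    ((π ≫ zl) ≫ D.obj.hom) (Category.assoc _ _ _).symm (Category.assoc _ _ _).symm (h01.trans h12)
    ⟨vl, rfl⟩ ⟨π ≫ vl, rfl⟩ rfl
  rw [← nat, ← k3]
  exact k2

theorem DRel.unique {T : Scheme.{u}} {c c' c'' : T ⟶ Q.F} (h₁ : DRel Q c c') (h₂ : DRel Q c c'')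
    (hcc : c' ≫ Q.a' = c'' ≫ Q.a') : c' = c'' := by
  obtain ⟨T₁, π₁, vl, e₁, h1⟩ := Q.exists_lift c
  obtain ⟨T₂, π₂, wl₁, e₂, h2⟩ := Q.exists_lift (π₁ ≫ c')
  obtain ⟨T₃, π₃, wl₂, e₃, h3⟩ := Q.exists_lift (π₂ ≫ π₁ ≫ c'')
  rw [← cancel_epi π₁, ← cancel_epi π₂, ← cancel_epi π₃]
  have hv : (π₃ ≫ π₂ ≫ vl) ≫ Q.q = (π₃ ≫ π₂ ≫ π₁) ≫ c := by
    simp only [Category.assoc, h1]
  have hw : (π₃ ≫ wl₁) ≫ Q.q = (π₃ ≫ π₂ ≫ π₁) ≫ c' := by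
    simp only [Category.assoc, h2]
  have hw' : wl₂ ≫ Q.q = (π₃ ≫ π₂ ≫ π₁) ≫ c'' := by
    simp only [Category.assoc, h3]
  have h01 : ((π₃ ≫ π₂ ≫ vl) ≫ D.obj.hom) ≫ G ≫ p = ((π₃ ≫ wl₁) ≫ D.obj.hom) ≫ G ≫ p := by
    rw [Q.lift_base hv, Q.lift_base hw, h₁.1]
  have h02 : ((π₃ ≫ π₂ ≫ vl) ≫ D.obj.hom) ≫ G ≫ p = (wl₂ ≫ D.obj.hom) ≫ G ≫ p := by
    rw [Q.lift_base hv, Q.lift_base hw', h₂.1]
  have k1 := h₁.2 _ _ _ h01 hv hw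
  have k2 := h₂.2 _ _ _ h02 hv hw'
  have h12 : ((π₃ ≫ wl₁) ≫ D.obj.hom) ≫ G ≫ p = (wl₂ ≫ D.obj.hom) ≫ G ≫ p := h01.symm.trans h02
  have hG12 : ((π₃ ≫ wl₁) ≫ D.obj.hom) ≫ G = (wl₂ ≫ D.obj.hom) ≫ G := by
    rw [Q.lift_baseG hw, Q.lift_baseG hw', hcc]
  have k1' : D.φ _ _ h01 ⟨π₃ ≫ π₂ ≫ vl, rfl⟩ = ⟨π₃ ≫ wl₁, rfl⟩ := Subtype.ext k1
  have k3 : D.φ _ _ h12 ⟨π₃ ≫ wl₁, rfl⟩ = ⟨wl₂, rfl⟩ := by
    rw [← k1', D.φ_comp]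
    exact Subtype.ext k2
  have inv := Q.hinv _ _ h12 hG12 ⟨π₃ ≫ wl₁, rfl⟩
  rw [k3] at inv
  have := hw.symm.trans (inv.symm.trans hw')
  simpa only [Category.assoc] using this

/-- the case of a target point which lifts to `X'` -/
theorem stage1D {T : Scheme.{u}} (c : T ⟶ Q.F) (xl₁ : T ⟶ X')
    (h : c ≫ Q.a' ≫ p = xl₁ ≫ G ≫ p) :
    ∃ wl₁ : T ⟶ D.obj.left, wl₁ ≫ D.obj.hom = xl₁ ∧
      ∀ ⦃T' : Scheme.{u}⦄ (t : T' ⟶ T) (vl : T' ⟶ D.obj.left)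
        (h' : (vl ≫ D.obj.hom) ≫ G ≫ p = (t ≫ xl₁) ≫ G ≫ p), vl ≫ Q.q = t ≫ c →
        (D.φ (vl ≫ D.obj.hom) (t ≫ xl₁) h' ⟨vl, rfl⟩).1 = t ≫ wl₁ := by
  obtain ⟨π, hπ⟩ : ∃ π : pullback c Q.q ⟶ T, π = pullback.fst c Q.q := ⟨_, rfl⟩
  obtain ⟨vl₀, hvl₀⟩ : ∃ vl₀ : pullback c Q.q ⟶ D.obj.left, vl₀ = pullback.snd c Q.q := ⟨_, rfl⟩
  have hcond : vl₀ ≫ Q.q = π ≫ c := by rw [hπ, hvl₀]; exact pullback.condition.symm
  haveI : Epi π := by rw [hπ]; exact Q.epi_fst c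
  haveI : EffectiveEpi π := by
    rw [hπ]
    exact Q.good.effEpi _ _ _ (Q.isPullback_fst c)
  have h₀ : (vl₀ ≫ D.obj.hom) ≫ G ≫ p = (π ≫ xl₁) ≫ G ≫ p := by
    rw [Q.lift_base hcond, h, Category.assoc]
  obtain ⟨wl, hwl⟩ : ∃ wl : pullback c Q.q ⟶ D.obj.left,
      wl = (D.φ (vl₀ ≫ D.obj.hom) (π ≫ xl₁) h₀ ⟨vl₀, rfl⟩).1 := ⟨_, rfl⟩
  have hnat : ∀ {Z : Scheme.{u}} (k : Z ⟶ pullback c Q.q) (y₀ y₁ : Z ⟶ X')
      (e₀ : k ≫ vl₀ ≫ D.obj.hom = y₀) (e₁ : k ≫ π ≫ xl₁ = y₁) (h' : y₀ ≫ G ≫ p = y₁ ≫ G ≫ p)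
      (v : Lifts D.obj y₀), v.1 = k ≫ vl₀ → (D.φ y₀ y₁ h' v).1 = k ≫ wl := by
    intro Z k y₀ y₁ e₀ e₁ h' v hv
    rw [hwl]
    exact phi_natural' D k _ _ h₀ y₀ y₁ e₀ e₁ h' ⟨vl₀, rfl⟩ v hv
  have compat : ∀ {Z : Scheme.{u}} (g₁ g₂ : Z ⟶ pullback c Q.q), g₁ ≫ π = g₂ ≫ π →
      g₁ ≫ wl = g₂ ≫ wl := by
    intro Z g₁ g₂ hg
    have hq1 : (g₁ ≫ vl₀) ≫ Q.q = (g₁ ≫ π) ≫ c := by rw [Category.assoc, hcond, Category.assoc]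
    have hq2 : (g₂ ≫ vl₀) ≫ Q.q = (g₁ ≫ π) ≫ c := by
      rw [Category.assoc, hcond, ← Category.assoc, hg]
    have hb : ((g₁ ≫ vl₀) ≫ D.obj.hom) ≫ G ≫ p = ((g₂ ≫ vl₀) ≫ D.obj.hom) ≫ G ≫ p := by
      rw [Q.lift_base hq1, Q.lift_base hq2]
    have two := Q.two_lifts (g₁ ≫ vl₀) (g₂ ≫ vl₀) hb (hq1.trans hq2.symm)
    have two' : D.φ _ _ hb ⟨g₁ ≫ vl₀, rfl⟩ = ⟨g₂ ≫ vl₀, rfl⟩ := Subtype.ext two
    have hx : g₁ ≫ π ≫ xl₁ = g₂ ≫ π ≫ xl₁ := by rw [← Category.assoc, hg, Category.assoc]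
    have h1' : ((g₁ ≫ vl₀) ≫ D.obj.hom) ≫ G ≫ p = (g₁ ≫ π ≫ xl₁) ≫ G ≫ p := by
      rw [Q.lift_base hq1]
      simp only [Category.assoc]
      rw [← h]
    have h2' : ((g₂ ≫ vl₀) ≫ D.obj.hom) ≫ G ≫ p = (g₁ ≫ π ≫ xl₁) ≫ G ≫ p := hb.symm.trans h1'
    have n1 := hnat g₁ _ _ (Category.assoc _ _ _).symm rfl h1' ⟨g₁ ≫ vl₀, rfl⟩ rfl
    have n2 := hnat g₂ _ _ (Category.assoc _ _ _).symm hx.symm h2' ⟨g₂ ≫ vl₀, rfl⟩ rfl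
    rw [← n1, ← n2, ← two', D.φ_comp]
  obtain ⟨wl₁, hfac⟩ : ∃ wl₁ : T ⟶ D.obj.left, π ≫ wl₁ = wl :=
    ⟨EffectiveEpi.desc π wl (fun g₁ g₂ hg => compat g₁ g₂ hg), EffectiveEpi.fac _ _ _⟩
  refine ⟨wl₁, ?_, ?_⟩
  · rw [← cancel_epi π, ← Category.assoc, hfac, hwl]
    exact phi_hom D _ _ h₀ _
  · intro T' t vl h' hvl
    obtain ⟨k, hk1, hk2⟩ : ∃ k : T' ⟶ pullback c Q.q, k ≫ π = t ∧ k ≫ vl₀ = vl := by
      refine ⟨pullback.lift t vl hvl.symm, ?_, ?_⟩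
      · rw [hπ]; exact pullback.lift_fst _ _ _
      · rw [hvl₀]; exact pullback.lift_snd _ _ _
    have e1 : t ≫ wl₁ = k ≫ wl := by rw [← hfac, ← Category.assoc, hk1]
    rw [e1]
    exact hnat k _ _ (by rw [← Category.assoc, hk2]) (by rw [← Category.assoc, hk1]) h' ⟨vl, rfl⟩
      hk2.symm

/-- the relation descends along a cover -/
theorem DRel.of_cover {T T₁ : Scheme.{u}} (π₁ : T₁ ⟶ T)
    (hepi : ∀ {T' : Scheme.{u}} (t : T' ⟶ T), Epi (pullback.fst t π₁)) {c c' : T ⟶ Q.F}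
    (h1 : c ≫ Q.a' ≫ p = c' ≫ Q.a' ≫ p) (hr : DRel Q (π₁ ≫ c) (π₁ ≫ c')) : DRel Q c c' := by
  refine ⟨h1, ?_⟩
  intro T' t vl wl h hvl hwl
  haveI := hepi t
  rw [← cancel_epi (pullback.fst t π₁)]
  have hh : ((pullback.fst t π₁ ≫ vl) ≫ D.obj.hom) ≫ G ≫ p =
      ((pullback.fst t π₁ ≫ wl) ≫ D.obj.hom) ≫ G ≫ p := by
    simp only [Category.assoc] at h ⊢
    rw [h]
  have nat := phi_natural' D (pullback.fst t π₁) (vl ≫ D.obj.hom) (wl ≫ D.obj.hom) h _ _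
    (Category.assoc _ _ _).symm (Category.assoc _ _ _).symm hh ⟨vl, rfl⟩
    ⟨pullback.fst t π₁ ≫ vl, rfl⟩ rfl
  rw [← nat]
  refine hr.2 (pullback.snd t π₁) _ _ hh ?_ ?_
  · rw [Category.assoc, hvl, ← Category.assoc, pullback.condition, Category.assoc]
  · rw [Category.assoc, hwl, ← Category.assoc, pullback.condition, Category.assoc]

theorem DRel.exists_rel {T : Scheme.{u}} (x₀ x₁ : T ⟶ X) (h : x₀ ≫ p = x₁ ≫ p) (c : T ⟶ Q.F)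
    (hc : c ≫ Q.a' = x₀) : ∃ c' : T ⟶ Q.F, c' ≫ Q.a' = x₁ ∧ DRel Q c c' := by
  obtain ⟨π₁, hπ₁⟩ : ∃ π₁ : pullback x₁ G ⟶ T, π₁ = pullback.fst x₁ G := ⟨_, rfl⟩
  obtain ⟨xl₁, hxl₁⟩ : ∃ xl₁ : pullback x₁ G ⟶ X', xl₁ = pullback.snd x₁ G := ⟨_, rfl⟩
  have hcond : π₁ ≫ x₁ = xl₁ ≫ G := by rw [hπ₁, hxl₁]; exact pullback.condition
  have sq : IsPullback xl₁ π₁ G x₁ := by
    rw [hπ₁, hxl₁]; exact (IsPullback.of_hasPullback x₁ G).flip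
  haveI : EffectiveEpi π₁ := Q.good.effEpi _ _ _ sq
  have hepi : ∀ {T' : Scheme.{u}} (t : T' ⟶ T), Epi (pullback.fst t π₁) := by
    intro T' t
    have := Q.good.flat
    have := Q.good.surj
    have sq' : IsPullback (pullback.snd t π₁ ≫ xl₁) (pullback.fst t π₁) G (t ≫ x₁) :=
      (IsPullback.of_hasPullback t π₁).flip.paste_horiz sq
    have : Flat (pullback.fst t π₁) :=
      MorphismProperty.of_isPullback (P := @Flat) sq' inferInstance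
    have : Surjective (pullback.fst t π₁) :=
      MorphismProperty.of_isPullback (P := @Surjective) sq' inferInstance
    exact Flat.epi_of_flat_of_surjective _
  haveI : Epi π₁ := by
    have := Q.good.flat
    have := Q.good.surj
    have : Flat π₁ := MorphismProperty.of_isPullback (P := @Flat) sq inferInstance
    have : Surjective π₁ := MorphismProperty.of_isPullback (P := @Surjective) sq inferInstance
    exact Flat.epi_of_flat_of_surjective _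
  have h1 : (π₁ ≫ c) ≫ Q.a' ≫ p = xl₁ ≫ G ≫ p := by
    rw [Category.assoc, ← Category.assoc c, hc, h, ← Category.assoc, hcond, Category.assoc]
  obtain ⟨wl₁, hw1, hw2⟩ := stage1D (Q := Q) (π₁ ≫ c) xl₁ h1
  have hc1a : (wl₁ ≫ Q.q) ≫ Q.a' = π₁ ≫ x₁ := by
    rw [Category.assoc, ← Q.hpb.w, ← Category.assoc, hw1, hcond]
  have R₁ : DRel Q (π₁ ≫ c) (wl₁ ≫ Q.q) := by
    refine ⟨?_, ?_⟩
    · rw [h1, ← Category.assoc (wl₁ ≫ Q.q), hc1a, hcond, Category.assoc]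
    · intro T' t vl wl hh hvl hwl
      have hm : (t ≫ wl₁) ≫ D.obj.hom = t ≫ xl₁ := by rw [Category.assoc, hw1]
      have h'' : (vl ≫ D.obj.hom) ≫ G ≫ p = (t ≫ xl₁) ≫ G ≫ p := by
        rw [Q.lift_base hvl]
        simp only [Category.assoc]
        rw [← Category.assoc c, hc, h, ← Category.assoc π₁, hcond]
        simp only [Category.assoc]
      have sp := hw2 t vl h'' hvl
      have hq : (t ≫ wl₁) ≫ Q.q = wl ≫ Q.q := by rw [hwl, Category.assoc]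
      have hb : ((t ≫ wl₁) ≫ D.obj.hom) ≫ G ≫ p = (wl ≫ D.obj.hom) ≫ G ≫ p := by
        rw [hm]; exact h''.symm.trans hh
      have two := Q.two_lifts (t ≫ wl₁) wl hb hq
      have h₃ : (t ≫ xl₁) ≫ G ≫ p = (wl ≫ D.obj.hom) ≫ G ≫ p := h''.symm.trans hh
      have eA : D.φ (vl ≫ D.obj.hom) (t ≫ xl₁) h'' ⟨vl, rfl⟩ = ⟨t ≫ wl₁, hm⟩ := Subtype.ext sp
      have eB : (D.φ (t ≫ xl₁) (wl ≫ D.obj.hom) h₃ ⟨t ≫ wl₁, hm⟩).1 = wl :=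
        (phi_congr D hm.symm rfl h₃ hb ⟨t ≫ wl₁, hm⟩ ⟨t ≫ wl₁, rfl⟩ rfl).trans two
      have eC := D.φ_comp _ _ _ h'' h₃ ⟨vl, rfl⟩
      rw [eA] at eC
      rw [← eC]
      exact eB
  have compat : ∀ {Z : Scheme.{u}} (g₁ g₂ : Z ⟶ pullback x₁ G), g₁ ≫ π₁ = g₂ ≫ π₁ →
      g₁ ≫ wl₁ ≫ Q.q = g₂ ≫ wl₁ ≫ Q.q := by
    intro Z g₁ g₂ hg
    have r1 := R₁.comp g₁
    have r2 := R₁.comp g₂
    have e : g₂ ≫ π₁ ≫ c = g₁ ≫ π₁ ≫ c := by rw [← Category.assoc, ← hg, Category.assoc]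
    rw [e] at r2
    refine DRel.unique r1 r2 ?_
    calc (g₁ ≫ wl₁ ≫ Q.q) ≫ Q.a' = g₁ ≫ (wl₁ ≫ Q.q) ≫ Q.a' := Category.assoc _ _ _
      _ = g₁ ≫ π₁ ≫ x₁ := by rw [hc1a]
      _ = g₂ ≫ π₁ ≫ x₁ := by rw [← Category.assoc, hg, Category.assoc]
      _ = g₂ ≫ (wl₁ ≫ Q.q) ≫ Q.a' := by rw [hc1a]
      _ = _ := (Category.assoc _ _ _).symm
  obtain ⟨c', hfac⟩ : ∃ c' : T ⟶ Q.F, π₁ ≫ c' = wl₁ ≫ Q.q :=
    ⟨EffectiveEpi.desc π₁ (wl₁ ≫ Q.q) (fun g₁ g₂ hg => compat g₁ g₂ hg), EffectiveEpi.fac _ _ _⟩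
  have hc' : c' ≫ Q.a' = x₁ := by
    rw [← cancel_epi π₁, ← Category.assoc, hfac, hc1a]
  refine ⟨c', hc', DRel.of_cover π₁ hepi ?_ (by rw [hfac]; exact R₁)⟩
  rw [← Category.assoc, hc, ← Category.assoc, hc', h]

variable (Q)

/-- the gluing relation on the quotient -/
noncomputable def descRel : SheafDesc.GlueRel Q.a' p where
  Rel := DRel Q
  refl := fun _ c => DRel.refl c
  symm := fun _ _ _ h => h.symm
  trans := fun _ _ _ _ h₁ h₂ => h₁.trans h₂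
  comp := fun _ _ k _ _ h => h.comp k
  unique := fun _ _ _ _ h h' hww => DRel.unique h h' hww
  exists_rel := fun _ x₀ x₁ h c hc => DRel.exists_rel x₀ x₁ h c hc

/-- **the descended descent datum** -/
noncomputable def descDD : SchDD p := (descRel Q).dd

theorem descDD_hom : (descDD Q).obj.hom = Q.a' := rfl

/-- the gluing bijections of the descended datum are induced by those of `D` -/
theorem descDD_phi {T : Scheme.{u}} (x₀ x₁ : T ⟶ X') (h : x₀ ≫ G ≫ p = x₁ ≫ G ≫ p)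
    (h' : (x₀ ≫ G) ≫ p = (x₁ ≫ G) ≫ p) (v : Lifts D.obj x₀) (c : Lifts (descDD Q).obj (x₀ ≫ G))
    (hc : c.1 = v.1 ≫ Q.q) :
    ((descDD Q).φ (x₀ ≫ G) (x₁ ≫ G) h' c).1 = (D.φ x₀ x₁ h v).1 ≫ Q.q := by
  have hrel : DRel Q c.1 ((descDD Q).φ _ _ h' c).1 := (descRel Q).dd_rel _ _ h' c
  have hw2 : ((descDD Q).φ _ _ h' c).1 ≫ Q.a' = x₁ ≫ G := ((descDD Q).φ _ _ h' c).2
  obtain ⟨wl, hwl1, hwl2⟩ : ∃ wl : T ⟶ D.obj.left, wl ≫ D.obj.hom = x₁ ∧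
      wl ≫ Q.q = ((descDD Q).φ _ _ h' c).1 :=
    ⟨Q.hpb.lift x₁ _ hw2.symm, Q.hpb.lift_fst _ _ _, Q.hpb.lift_snd _ _ _⟩
  have hv0 : v.1 ≫ D.obj.hom = x₀ := v.2
  have hh : (v.1 ≫ D.obj.hom) ≫ G ≫ p = (wl ≫ D.obj.hom) ≫ G ≫ p := by
    rw [hv0, hwl1]; exact h
  have key := hrel.2 (𝟙 T) v.1 wl hh (by rw [Category.id_comp, hc]) (by rw [Category.id_comp, hwl2])
  rw [← hwl2, ← key, phi_congr D hv0.symm hwl1.symm h hh v ⟨v.1, rfl⟩ rfl]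

end Groth.Agent.Lib.Helper28.EffDescQ
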