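import Groth.Agent.Lib.Helper28.EffDesc.GlueV

/-!
# Effective descent (helper28): points of a disjoint union of schemes

Localisation principles for morphisms into a coproduct of schemes, and the cartesian squares relating
`Limits.Sigma.map` with the coprojections (for an arbitrary index type).
-/

set_option autoImplicit false
set_option maxHeartbeats 1600000
set_option backward.isDefEq.respectTransparency false
set_option backward.isDefEq.respectTransparency.types false
universe w v u
open CategoryTheory CategoryTheory.Limits AlgebraicGeometry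

namespace Groth.Agent.Lib.Helper28.EffDescQ

variable {σ : Type v} [Small.{u} σ] (Y : σ → Scheme.{u})

/-- morphisms out of `T` agree if they agree on the pieces of `T` lying over the components of `∐ Y` -/
theorem sigma_loc {T Z : Scheme.{u}} (v : T ⟶ ∐ Y) (m₁ m₂ : T ⟶ Z)
    (h : ∀ i, pullback.fst v (Sigma.ι Y i) ≫ m₁ = pullback.fst v (Sigma.ι Y i) ≫ m₂) : m₁ = m₂ := by
  apply Scheme.Cover.hom_ext ((sigmaOpenCover Y).pullback₁ v)
  intro i
  exact h i

theorem sigma_loc' {T Z : Scheme.{u}} (v : T ⟶ ∐ Y) (m₁ m₂ : T ⟶ Z)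
    (h : ∀ (T' : Scheme.{u}) (t : T' ⟶ T) (i : σ) (v' : T' ⟶ Y i), t ≫ v = v' ≫ Sigma.ι Y i →
      t ≫ m₁ = t ≫ m₂) : m₁ = m₂ :=
  sigma_loc Y v m₁ m₂ (fun i => h _ _ i (pullback.snd v (Sigma.ι Y i)) pullback.condition)

theorem isEmpty_of_sigma_ne {T' : Scheme.{u}} {i j : σ} (v' : T' ⟶ Y i) (w' : T' ⟶ Y j)
    (h : v' ≫ Sigma.ι Y i = w' ≫ Sigma.ι Y j) (hij : i ≠ j) : IsEmpty T' :=
  isEmpty_of_commSq_sigmaι_of_ne ⟨h⟩ hij

theorem hom_eq_of_isEmpty {T' Z : Scheme.{u}} [IsEmpty T'] (m₁ m₂ : T' ⟶ Z) : m₁ = m₂ :=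
  isInitialOfIsEmpty.hom_ext _ _

/-- gluing morphisms defined on the pieces of `T` lying over the components of `∐ Y`: no compatibility is needed -/
theorem sigma_glue {T Z : Scheme.{u}} (v : T ⟶ ∐ Y) (m : ∀ i, pullback v (Sigma.ι Y i) ⟶ Z) :
    ∃ w : T ⟶ Z, ∀ i, pullback.fst v (Sigma.ι Y i) ≫ w = m i := by
  have compat : ∀ i j : σ,
      pullback.fst (pullback.fst v (Sigma.ι Y i)) (pullback.fst v (Sigma.ι Y j)) ≫ m i =
        pullback.snd (pullback.fst v (Sigma.ι Y i)) (pullback.fst v (Sigma.ι Y j)) ≫ m j := by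
    intro i j
    by_cases hij : i = j
    · subst hij
      rw [fst_eq_snd_of_mono_eq]
    · haveI : IsEmpty ↥(pullback (pullback.fst v (Sigma.ι Y i)) (pullback.fst v (Sigma.ι Y j))) := by
        refine isEmpty_of_sigma_ne Y
          (pullback.fst (pullback.fst v (Sigma.ι Y i)) (pullback.fst v (Sigma.ι Y j)) ≫
            pullback.snd v (Sigma.ι Y i))
          (pullback.snd (pullback.fst v (Sigma.ι Y i)) (pullback.fst v (Sigma.ι Y j)) ≫
            pullback.snd v (Sigma.ι Y j)) ?_ hij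
        rw [Category.assoc, ← pullback.condition, ← Category.assoc, pullback.condition,
          Category.assoc, pullback.condition, Category.assoc]
      exact hom_eq_of_isEmpty _ _
  refine ⟨Scheme.Cover.glueMorphisms ((sigmaOpenCover Y).pullback₁ v) (fun i => m i)
    (fun i j => compat i j), fun i => ?_⟩
  exact Scheme.Cover.ι_glueMorphisms ((sigmaOpenCover Y).pullback₁ v) (fun i => m i)
    (fun i j => compat i j) i

variable {Y}

/-- the coprojections are cartesian over `Limits.Sigma.map`, for an arbitrary index type -/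
theorem isPullback_sigmaι_map {V U : σ → Scheme.{u}} (a : ∀ i, V i ⟶ U i) (i : σ) :
    IsPullback (Sigma.ι V i) (a i) (Limits.Sigma.map a) (Sigma.ι U i) := by
  refine (IsOpenImmersion.isPullback (a i) (Sigma.ι V i) (Sigma.ι U i) (Limits.Sigma.map a)
    (Sigma.ι_map a i) ?_).flip
  ext y
  rw [SetLike.mem_coe, SetLike.mem_coe, Scheme.Hom.mem_preimage, Scheme.Hom.mem_opensRange,
    Scheme.Hom.mem_opensRange]
  constructor
  · rintro ⟨x, hx⟩
    obtain ⟨j, y', rfl⟩ := (sigmaOpenCover V).exists_eq y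
    change (Sigma.ι U i) x = (Limits.Sigma.map a) ((Sigma.ι V j) y') at hx
    have e : (Limits.Sigma.map a) ((Sigma.ι V j) y') = (Sigma.ι U j) ((a j) y') := by
      rw [← Scheme.Hom.comp_apply, ← Scheme.Hom.comp_apply, Sigma.ι_map]
    rw [e] at hx
    have hij : i = j := by
      have := (sigmaι_eq_iff U i j x _).mp hx
      exact (Sigma.mk.inj_iff.mp this).1
    subst hij
    exact ⟨y', rfl⟩
  · rintro ⟨y', rfl⟩
    exact ⟨a i y', by rw [← Scheme.Hom.comp_apply, ← Scheme.Hom.comp_apply, Sigma.ι_map]⟩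

/-- a point of `∐ V` lying over a point of the component `U i` lies in the component `V i` -/
theorem sigma_factor {V U : σ → Scheme.{u}} (a : ∀ i, V i ⟶ U i) {T : Scheme.{u}} {i : σ}
    (w : T ⟶ ∐ V) (x : T ⟶ U i) (h : w ≫ Limits.Sigma.map a = x ≫ Sigma.ι U i) :
    ∃ w' : T ⟶ V i, w' ≫ Sigma.ι V i = w ∧ w' ≫ a i = x :=
  ⟨(isPullback_sigmaι_map a i).lift w x h, (isPullback_sigmaι_map a i).lift_fst _ _ _,
    (isPullback_sigmaι_map a i).lift_snd _ _ _⟩

/-- the base change of `Limits.Sigma.map a` along a morphism of coproducts which is a coproduct of morphisms into the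
components -/
theorem isPullback_sigmaMap_sigmaDesc {κ : Type w} [Small.{u} κ] {V U : σ → Scheme.{u}}
    (a : ∀ i, V i ⟶ U i) (idx : κ → σ) {A : κ → Scheme.{u}} (c : ∀ k, A k ⟶ U (idx k)) :
    IsPullback
      (Sigma.desc (fun k => pullback.fst (a (idx k)) (c k) ≫ Sigma.ι V (idx k)) :
        (∐ fun k => pullback (a (idx k)) (c k)) ⟶ ∐ V)
      (Limits.Sigma.map (fun k => pullback.snd (a (idx k)) (c k)))
      (Limits.Sigma.map a) (Sigma.desc (fun k => c k ≫ Sigma.ι U (idx k))) := by
  have hw : (Sigma.desc (fun k => pullback.fst (a (idx k)) (c k) ≫ Sigma.ι V (idx k)) :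
        (∐ fun k => pullback (a (idx k)) (c k)) ⟶ ∐ V) ≫ Limits.Sigma.map a =
      Limits.Sigma.map (fun k => pullback.snd (a (idx k)) (c k)) ≫
        Sigma.desc (fun k => c k ≫ Sigma.ι U (idx k)) := by
    apply Sigma.hom_ext
    intro k
    rw [Sigma.ι_desc_assoc, Sigma.ι_map_assoc, Sigma.ι_desc, Category.assoc, Sigma.ι_map,
      ← Category.assoc, pullback.condition, Category.assoc]
  refine EffDesc.isPullback_of_local_target _ _ _ _ hw (sigmaOpenCover A)
    (fun k => pullback (a (idx k)) (c k))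
    (fun k => Sigma.ι (fun k => pullback (a (idx k)) (c k)) k)
    (fun k => pullback.snd (a (idx k)) (c k)) (fun k => ?_) (fun k => ?_)
  · exact isPullback_sigmaι_map (fun k => pullback.snd (a (idx k)) (c k)) k
  · have h1 := (IsPullback.of_hasPullback (a (idx k)) (c k)).paste_horiz
      (isPullback_sigmaι_map a (idx k))
    have e1 : Sigma.ι (fun k => pullback (a (idx k)) (c k)) k ≫
        (Sigma.desc (fun k => pullback.fst (a (idx k)) (c k) ≫ Sigma.ι V (idx k)) :
          (∐ fun k => pullback (a (idx k)) (c k)) ⟶ ∐ V) =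
        pullback.fst (a (idx k)) (c k) ≫ Sigma.ι V (idx k) := Sigma.ι_desc _ _
    have e2 : Sigma.ι A k ≫ Sigma.desc (fun k => c k ≫ Sigma.ι U (idx k)) =
        c k ≫ Sigma.ι U (idx k) := Sigma.ι_desc _ _
    change IsPullback (Sigma.ι (fun k => pullback (a (idx k)) (c k)) k ≫ _) _ _ (Sigma.ι A k ≫ _)
    rw [e1, e2]
    exact h1

end Groth.Agent.Lib.Helper28.EffDescQ
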