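import Groth.Prelude.Def_DescFam
import Groth.Agent.Lib.Helper28.EffDesc.SheafDesc
import Groth.Agent.Lib.Helper28.EffDescQ.SigmaPt

/-!
# Effective descent (helper28): the disjoint union of a descent datum relative to a family

A descent datum `E` relative to a family `f i : X i ⟶ S` defines a descent datum `sigmaDD E` relative to
`Sigma.desc f : ∐ X ⟶ S` on `∐ (E.obj i).left ⟶ ∐ X`, whose gluing bijections restrict to those of `E` on the
components (`sigmaDD_phi`).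
-/

set_option autoImplicit false
set_option maxHeartbeats 1600000
set_option backward.isDefEq.respectTransparency false
set_option backward.isDefEq.respectTransparency.types false
universe u
open CategoryTheory CategoryTheory.Limits AlgebraicGeometry

namespace Groth.Agent.Lib.Helper28.EffDescQ

open Desc

variable {ι : Type u} {S : Scheme.{u}} {X : ι → Scheme.{u}} {f : ∀ i, X i ⟶ S}

/-- the structure morphisms of a descent datum relative to a family, with the expected target -/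
abbrev strMap (E : SchDDFam f) (i : ι) : (E.obj i).left ⟶ X i := (E.obj i).hom

theorem phiF_congr (E : SchDDFam f) {T : Scheme.{u}} {i j : ι} {x₀ x₀' : T ⟶ X i} {x₁ x₁' : T ⟶ X j}
    (e₀ : x₀ = x₀') (e₁ : x₁ = x₁') (h : x₀ ≫ f i = x₁ ≫ f j) (h' : x₀' ≫ f i = x₁' ≫ f j)
    (v : Lifts (E.obj i) x₀) (v' : Lifts (E.obj i) x₀') (hv : v.1 = v'.1) :
    (E.φ x₀ x₁ h v).1 = (E.φ x₀' x₁' h' v').1 := by
  subst e₀ e₁
  have : v = v' := Subtype.ext hv
  subst this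
  rfl

variable (E : SchDDFam f)

theorem ι_tot (i : ι) :
    Sigma.ι (fun i => (E.obj i).left) i ≫ Limits.Sigma.map (strMap E) ≫ Sigma.desc f =
      strMap E i ≫ f i := by
  rw [← Category.assoc, Limits.Sigma.ι_map, Category.assoc, Sigma.ι_desc]

theorem base_eq {T' T : Scheme.{u}} {t : T' ⟶ T} {v : T ⟶ ∐ fun i => (E.obj i).left} {i : ι}
    {v' : T' ⟶ (E.obj i).left} (hv : t ≫ v = v' ≫ Sigma.ι (fun i => (E.obj i).left) i) :
    (v' ≫ strMap E i) ≫ f i = t ≫ v ≫ Limits.Sigma.map (strMap E) ≫ Sigma.desc f := by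
  rw [Category.assoc, ← ι_tot E i, ← Category.assoc, ← hv, Category.assoc]

theorem tot_eq {T' T : Scheme.{u}} {t : T' ⟶ T} {v : T ⟶ ∐ fun i => (E.obj i).left} {i : ι}
    {v' : T' ⟶ (E.obj i).left} (hv : t ≫ v = v' ≫ Sigma.ι (fun i => (E.obj i).left) i) :
    (v' ≫ strMap E i) ≫ Sigma.ι X i = t ≫ v ≫ Limits.Sigma.map (strMap E) := by
  rw [Category.assoc, ← Limits.Sigma.ι_map (strMap E) i, ← Category.assoc, ← hv, Category.assoc]

/-- the gluing relation on the points of `∐ (E.obj i).left` -/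
def SRel ⦃T : Scheme.{u}⦄ (v w : T ⟶ ∐ fun i => (E.obj i).left) : Prop :=
  v ≫ Limits.Sigma.map (strMap E) ≫ Sigma.desc f = w ≫ Limits.Sigma.map (strMap E) ≫ Sigma.desc f ∧
  ∀ ⦃T' : Scheme.{u}⦄ (t : T' ⟶ T) ⦃i j : ι⦄ (v' : T' ⟶ (E.obj i).left) (w' : T' ⟶ (E.obj j).left)
    (h : (v' ≫ strMap E i) ≫ f i = (w' ≫ strMap E j) ≫ f j),
    t ≫ v = v' ≫ Sigma.ι (fun i => (E.obj i).left) i →
    t ≫ w = w' ≫ Sigma.ι (fun i => (E.obj i).left) j →
    (E.φ (v' ≫ strMap E i) (w' ≫ strMap E j) h ⟨v', rfl⟩).1 = w'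

variable {E}

theorem SRel.refl {T : Scheme.{u}} (v : T ⟶ ∐ fun i => (E.obj i).left) : SRel E v v := by
  refine ⟨rfl, ?_⟩
  intro T' t i j v' w' h hv hw
  by_cases hij : i = j
  · subst hij
    have e : v' = w' := by
      rw [← cancel_mono (Sigma.ι (fun i => (E.obj i).left) i), ← hv, ← hw]
    subst e
    exact congrArg Subtype.val (E.φ_self _ ⟨v', rfl⟩)
  · haveI := isEmpty_of_sigma_ne (fun i => (E.obj i).left) v' w' (hv.symm.trans hw) hij
    exact hom_eq_of_isEmpty _ _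

theorem SRel.symm {T : Scheme.{u}} {v w : T ⟶ ∐ fun i => (E.obj i).left} (hr : SRel E v w) :
    SRel E w v := by
  refine ⟨hr.1.symm, ?_⟩
  intro T' t j i w' v' h hw hv
  have key := hr.2 t v' w' h.symm hv hw
  have key' : E.φ (v' ≫ strMap E i) (w' ≫ strMap E j) h.symm ⟨v', rfl⟩ = ⟨w', rfl⟩ :=
    Subtype.ext key
  have e2 : E.φ (w' ≫ strMap E j) (v' ≫ strMap E i) h ⟨w', rfl⟩ =
      E.φ (v' ≫ strMap E i) (v' ≫ strMap E i) (h.symm.trans h) ⟨v', rfl⟩ := by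
    rw [← key']
    exact E.φ_comp _ _ _ h.symm h ⟨v', rfl⟩
  rw [e2]
  exact congrArg Subtype.val (E.φ_self _ ⟨v', rfl⟩)

theorem SRel.comp {T T'' : Scheme.{u}} (k : T'' ⟶ T) {v w : T ⟶ ∐ fun i => (E.obj i).left}
    (hr : SRel E v w) : SRel E (k ≫ v) (k ≫ w) := by
  refine ⟨by rw [Category.assoc, Category.assoc, hr.1], ?_⟩
  intro T' t i j v' w' h hv hw
  exact hr.2 (t ≫ k) v' w' h (by rw [Category.assoc]; exact hv) (by rw [Category.assoc]; exact hw)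

theorem SRel.trans {T : Scheme.{u}} {v w z : T ⟶ ∐ fun i => (E.obj i).left} (h₁ : SRel E v w)
    (h₂ : SRel E w z) : SRel E v z := by
  refine ⟨h₁.1.trans h₂.1, ?_⟩
  intro T' t i k v' z' h hv hz
  apply sigma_loc' (fun i => (E.obj i).left) (t ≫ w)
  intro T'' t' j w'' hw
  have hv' : (t' ≫ t) ≫ v = (t' ≫ v') ≫ Sigma.ι (fun i => (E.obj i).left) i := by
    rw [Category.assoc, hv, Category.assoc]
  have hw' : (t' ≫ t) ≫ w = w'' ≫ Sigma.ι (fun i => (E.obj i).left) j := by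
    rw [Category.assoc, hw]
  have hz' : (t' ≫ t) ≫ z = (t' ≫ z') ≫ Sigma.ι (fun i => (E.obj i).left) k := by
    rw [Category.assoc, hz, Category.assoc]
  have h01 : ((t' ≫ v') ≫ strMap E i) ≫ f i = (w'' ≫ strMap E j) ≫ f j := by
    rw [base_eq E hv', base_eq E hw', h₁.1]
  have h12 : (w'' ≫ strMap E j) ≫ f j = ((t' ≫ z') ≫ strMap E k) ≫ f k := by
    rw [base_eq E hw', base_eq E hz', h₂.1]
  have k1 := h₁.2 (t' ≫ t) (t' ≫ v') w'' h01 hv' hw'
  have k2 := h₂.2 (t' ≫ t) w'' (t' ≫ z') h12 hw' hz'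
  have k1' : E.φ ((t' ≫ v') ≫ strMap E i) (w'' ≫ strMap E j) h01 ⟨t' ≫ v', rfl⟩ = ⟨w'', rfl⟩ :=
    Subtype.ext k1
  have k3 : E.φ (w'' ≫ strMap E j) ((t' ≫ z') ≫ strMap E k) h12 ⟨w'', rfl⟩ =
      E.φ ((t' ≫ v') ≫ strMap E i) ((t' ≫ z') ≫ strMap E k) (h01.trans h12) ⟨t' ≫ v', rfl⟩ := by
    rw [← k1']
    exact E.φ_comp _ _ _ h01 h12 ⟨t' ≫ v', rfl⟩
  have nat := E.φ_natural t' (v' ≫ strMap E i) (z' ≫ strMap E k) h ((t' ≫ v') ≫ strMap E i)
    ((t' ≫ z') ≫ strMap E k) (Category.assoc _ _ _).symm (Category.assoc _ _ _).symm (h01.trans h12)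
    ⟨v', rfl⟩ ⟨t' ≫ v', rfl⟩ rfl
  rw [← nat, ← k3]
  exact k2

theorem SRel.unique {T : Scheme.{u}} {v w w' : T ⟶ ∐ fun i => (E.obj i).left} (h₁ : SRel E v w)
    (h₂ : SRel E v w') (hww : w ≫ Limits.Sigma.map (strMap E) = w' ≫ Limits.Sigma.map (strMap E)) :
    w = w' := by
  apply sigma_loc' (fun i => (E.obj i).left) v
  intro T₁ t₁ i v₁ hv₁
  apply sigma_loc' (fun i => (E.obj i).left) (t₁ ≫ w)
  intro T₂ t₂ j w₁ hw₁
  apply sigma_loc' (fun i => (E.obj i).left) (t₂ ≫ t₁ ≫ w')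
  intro T₃ t₃ j' w₂ hw₂
  have hv : (t₃ ≫ t₂ ≫ t₁) ≫ v = (t₃ ≫ t₂ ≫ v₁) ≫ Sigma.ι (fun i => (E.obj i).left) i := by
    simp only [Category.assoc, hv₁]
  have hw : (t₃ ≫ t₂ ≫ t₁) ≫ w = (t₃ ≫ w₁) ≫ Sigma.ι (fun i => (E.obj i).left) j := by
    simp only [Category.assoc, hw₁]
  have hw' : (t₃ ≫ t₂ ≫ t₁) ≫ w' = w₂ ≫ Sigma.ι (fun i => (E.obj i).left) j' := by
    simp only [Category.assoc, hw₂]
  have hX : ((t₃ ≫ w₁) ≫ strMap E j) ≫ Sigma.ι X j = (w₂ ≫ strMap E j') ≫ Sigma.ι X j' := by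
    rw [tot_eq E hw, tot_eq E hw', hww]
  by_cases hjj : j = j'
  · subst hjj
    have hx : (t₃ ≫ w₁) ≫ strMap E j = w₂ ≫ strMap E j := (cancel_mono (Sigma.ι X j)).1 hX
    have h01 : ((t₃ ≫ t₂ ≫ v₁) ≫ strMap E i) ≫ f i = ((t₃ ≫ w₁) ≫ strMap E j) ≫ f j := by
      rw [base_eq E hv, base_eq E hw, h₁.1]
    have h02 : ((t₃ ≫ t₂ ≫ v₁) ≫ strMap E i) ≫ f i = (w₂ ≫ strMap E j) ≫ f j := by
      rw [base_eq E hv, base_eq E hw', h₂.1]
    have k1 := h₁.2 _ _ _ h01 hv hw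
    have k2 := h₂.2 _ _ _ h02 hv hw'
    have e : t₃ ≫ w₁ = w₂ :=
      k1.symm.trans ((phiF_congr E rfl hx h01 h02 _ _ rfl).trans k2)
    have := hw.trans ((congrArg (· ≫ Sigma.ι (fun i => (E.obj i).left) j) e).trans hw'.symm)
    simpa only [Category.assoc] using this
  · haveI := isEmpty_of_sigma_ne X _ _ hX hjj
    exact hom_eq_of_isEmpty _ _

/-- the case of a target point lying in one component -/
theorem stage1 {T : Scheme.{u}} (v : T ⟶ ∐ fun i => (E.obj i).left) {j : ι} (x₁ : T ⟶ X j)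
    (h : v ≫ Limits.Sigma.map (strMap E) ≫ Sigma.desc f = x₁ ≫ f j) :
    ∃ w : T ⟶ (E.obj j).left, w ≫ strMap E j = x₁ ∧
      ∀ ⦃T' : Scheme.{u}⦄ (t : T' ⟶ T) ⦃i : ι⦄ (v' : T' ⟶ (E.obj i).left)
        (h' : (v' ≫ strMap E i) ≫ f i = (t ≫ x₁) ≫ f j),
        t ≫ v = v' ≫ Sigma.ι (fun i => (E.obj i).left) i →
        (E.φ (v' ≫ strMap E i) (t ≫ x₁) h' ⟨v', rfl⟩).1 = t ≫ w := by
  have hloc : ∀ i, (pullback.snd v (Sigma.ι (fun i => (E.obj i).left) i) ≫ strMap E i) ≫ f i =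
      (pullback.fst v (Sigma.ι (fun i => (E.obj i).left) i) ≫ x₁) ≫ f j := by
    intro i
    rw [base_eq E pullback.condition, Category.assoc, h]
  obtain ⟨w, hw⟩ := sigma_glue (fun i => (E.obj i).left) v
    (fun i => (E.φ _ _ (hloc i) ⟨pullback.snd v (Sigma.ι (fun i => (E.obj i).left) i), rfl⟩).1)
  refine ⟨w, ?_, ?_⟩
  · apply sigma_loc (fun i => (E.obj i).left) v
    intro i
    rw [← Category.assoc, hw i]
    exact (E.φ _ _ (hloc i) ⟨pullback.snd v (Sigma.ι (fun i => (E.obj i).left) i), rfl⟩).2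
  · intro T' t i v' h' hv
    have e1 : t ≫ w = pullback.lift t v' hv ≫
        (E.φ _ _ (hloc i) ⟨pullback.snd v (Sigma.ι (fun i => (E.obj i).left) i), rfl⟩).1 := by
      rw [← hw i, ← Category.assoc, pullback.lift_fst]
    rw [e1]
    exact E.φ_natural (pullback.lift t v' hv) _ _ (hloc i) _ _
      (by rw [← Category.assoc, pullback.lift_snd]) (by rw [← Category.assoc, pullback.lift_fst]) h'
      ⟨pullback.snd v (Sigma.ι (fun i => (E.obj i).left) i), rfl⟩ ⟨v', rfl⟩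
      (pullback.lift_snd _ _ _).symm

theorem SRel.exists_rel {T : Scheme.{u}} (x₀ x₁ : T ⟶ ∐ X)
    (h : x₀ ≫ Sigma.desc f = x₁ ≫ Sigma.desc f) (v : T ⟶ ∐ fun i => (E.obj i).left)
    (hv : v ≫ Limits.Sigma.map (strMap E) = x₀) :
    ∃ w : T ⟶ ∐ fun i => (E.obj i).left, w ≫ Limits.Sigma.map (strMap E) = x₁ ∧ SRel E v w := by
  have hj : ∀ j, (pullback.fst x₁ (Sigma.ι X j) ≫ v) ≫ Limits.Sigma.map (strMap E) ≫ Sigma.desc f =
      pullback.snd x₁ (Sigma.ι X j) ≫ f j := by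
    intro j
    rw [Category.assoc, ← Category.assoc v, hv, h, ← Category.assoc, pullback.condition,
      Category.assoc, Sigma.ι_desc]
  choose wj hwj1 hwj2 using fun j => stage1 (E := E) (pullback.fst x₁ (Sigma.ι X j) ≫ v)
    (pullback.snd x₁ (Sigma.ι X j)) (hj j)
  obtain ⟨w, hw⟩ := sigma_glue X x₁ (fun j => wj j ≫ Sigma.ι (fun i => (E.obj i).left) j)
  have hwx : w ≫ Limits.Sigma.map (strMap E) = x₁ := by
    apply sigma_loc X x₁
    intro j
    rw [← Category.assoc, hw j, Category.assoc, Limits.Sigma.ι_map, ← Category.assoc, hwj1 j,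
      pullback.condition]
  refine ⟨w, hwx, ?_, ?_⟩
  · rw [← Category.assoc, hv, ← Category.assoc, hwx, h]
  · intro T' t i j v' w' h' htv htw
    have hx : t ≫ x₁ = (w' ≫ strMap E j) ≫ Sigma.ι X j := by
      rw [tot_eq E htw, hwx]
    have e1 : pullback.lift t (w' ≫ strMap E j) hx ≫ wj j = w' := by
      rw [← cancel_mono (Sigma.ι (fun i => (E.obj i).left) j), Category.assoc, ← hw j,
        ← Category.assoc, pullback.lift_fst, htw]
    have hl2 : pullback.lift t (w' ≫ strMap E j) hx ≫ pullback.snd x₁ (Sigma.ι X j) =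
        w' ≫ strMap E j := pullback.lift_snd _ _ _
    have h'' : (v' ≫ strMap E i) ≫ f i =
        (pullback.lift t (w' ≫ strMap E j) hx ≫ pullback.snd x₁ (Sigma.ι X j)) ≫ f j := by
      rw [hl2]; exact h'
    have hv'' : pullback.lift t (w' ≫ strMap E j) hx ≫ pullback.fst x₁ (Sigma.ι X j) ≫ v =
        v' ≫ Sigma.ι (fun i => (E.obj i).left) i := by
      rw [← Category.assoc, pullback.lift_fst, htv]
    have key := hwj2 j (pullback.lift t (w' ≫ strMap E j) hx) v' h'' hv''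
    rw [e1] at key
    exact (phiF_congr E rfl hl2.symm h' h'' _ _ rfl).trans key

variable (E)

/-- the gluing relation of the disjoint union -/
noncomputable def sigmaRel : SheafDesc.GlueRel (Limits.Sigma.map (strMap E)) (Sigma.desc f) where
  Rel := SRel E
  refl := fun _ v => SRel.refl v
  symm := fun _ _ _ h => h.symm
  trans := fun _ _ _ _ h₁ h₂ => h₁.trans h₂
  comp := fun _ _ k _ _ h => h.comp k
  unique := fun _ _ _ _ h h' hww => SRel.unique h h' hww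
  exists_rel := fun _ x₀ x₁ h v hv => SRel.exists_rel x₀ x₁ h v hv

/-- **the disjoint union of a descent datum relative to a family**, a descent datum relative to `Sigma.desc f` -/
noncomputable def sigmaDD : SchDD (Sigma.desc f) := (sigmaRel E).dd

theorem sigmaDD_hom : (sigmaDD E).obj.hom = Limits.Sigma.map (strMap E) := rfl

/-- the gluing bijections of the disjoint union restrict to those of `E` on the components -/
theorem sigmaDD_phi {T : Scheme.{u}} {i j : ι} (x₀ : T ⟶ X i) (x₁ : T ⟶ X j)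
    (h : x₀ ≫ f i = x₁ ≫ f j)
    (h' : (x₀ ≫ Sigma.ι X i) ≫ Sigma.desc f = (x₁ ≫ Sigma.ι X j) ≫ Sigma.desc f)
    (v₀ : Lifts (E.obj i) x₀) (v : Lifts (sigmaDD E).obj (x₀ ≫ Sigma.ι X i))
    (hv : v.1 = v₀.1 ≫ Sigma.ι (fun i => (E.obj i).left) i) :
    ((sigmaDD E).φ _ _ h' v).1 = (E.φ x₀ x₁ h v₀).1 ≫ Sigma.ι (fun i => (E.obj i).left) j := by
  have hrel : SRel E v.1 ((sigmaDD E).φ _ _ h' v).1 := (sigmaRel E).dd_rel _ _ h' v
  have hw2 : ((sigmaDD E).φ _ _ h' v).1 ≫ Limits.Sigma.map (strMap E) = x₁ ≫ Sigma.ι X j :=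
    ((sigmaDD E).φ _ _ h' v).2
  obtain ⟨w', hw'1, hw'2⟩ := sigma_factor (strMap E) _ x₁ hw2
  have hv0 : v₀.1 ≫ strMap E i = x₀ := v₀.2
  have h'' : (v₀.1 ≫ strMap E i) ≫ f i = (w' ≫ strMap E j) ≫ f j := by
    rw [hv0, hw'2]; exact h
  have key := hrel.2 (𝟙 T) v₀.1 w' h'' (by rw [Category.id_comp, hv])
    (by rw [Category.id_comp, hw'1])
  calc ((sigmaDD E).φ _ _ h' v).1 = w' ≫ Sigma.ι (fun i => (E.obj i).left) j := hw'1.symm
    _ = (E.φ x₀ x₁ h v₀).1 ≫ Sigma.ι (fun i => (E.obj i).left) j := by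
        rw [← key, phiF_congr E hv0.symm hw'2.symm h h'' v₀ ⟨v₀.1, rfl⟩ rfl]

end Groth.Agent.Lib.Helper28.EffDescQ
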