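import Groth.Agent.Lib.Helper16.DescPt
import Groth.Agent.Lib.Helper28.EffDescQ.SigmaDD

/-!
# Effective descent (helper28): a cartesian invariant quotient of the disjoint union makes the family datum effective
-/

set_option autoImplicit false
set_option maxHeartbeats 1600000
set_option backward.isDefEq.respectTransparency false
set_option backward.isDefEq.respectTransparency.types false
universe u
open CategoryTheory CategoryTheory.Limits AlgebraicGeometry

namespace Groth.Agent.Lib.Helper28.EffDescQ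

open Desc Groth.Agent.Lib.Helper16

variable {ι : Type u} {S : Scheme.{u}} {X : ι → Scheme.{u}} {f : ∀ i, X i ⟶ S} (E : SchDDFam f)

theorem effective_of_sigma_quot {W : Scheme.{u}} (u : W ⟶ S)
    (q : (∐ fun i => (E.obj i).left) ⟶ W)
    (hpb : IsPullback (Limits.Sigma.map (strMap E)) q (Sigma.desc f) u)
    (hinv : EffDesc.IsInv (sigmaDD E) q) : E.IsEffective := by
  have hpbi : ∀ i, IsPullback (strMap E i) (Sigma.ι (fun i => (E.obj i).left) i ≫ q) (f i) u := by
    intro i
    have := (isPullback_sigmaι_map (strMap E) i).flip.paste_vert hpb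
    rwa [Sigma.ι_desc] at this
  -- the comparison isomorphisms
  obtain ⟨k, hk1, hk2⟩ : ∃ k : ∀ i, (E.obj i).left ≅ pullback (f i) u,
      (∀ i, (k i).hom ≫ pullback.fst (f i) u = strMap E i) ∧
      (∀ i, (k i).hom ≫ pullback.snd (f i) u = Sigma.ι (fun i => (E.obj i).left) i ≫ q) :=
    ⟨fun i => (hpbi i).isoPullback, fun i => (hpbi i).isoPullback_hom_fst,
      fun i => (hpbi i).isoPullback_hom_snd⟩
  have hk1' : ∀ i, (k i).inv ≫ strMap E i = pullback.fst (f i) u := fun i => by
    rw [← hk1 i, Iso.inv_hom_id_assoc]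
  -- invariance on the components
  have hcomp : ∀ {T : Scheme.{u}} {i j : ι} (x₀ : T ⟶ X i) (x₁ : T ⟶ X j) (h : x₀ ≫ f i = x₁ ≫ f j)
      (v : Lifts (E.obj i) x₀),
      (E.φ x₀ x₁ h v).1 ≫ Sigma.ι (fun i => (E.obj i).left) j ≫ q =
        v.1 ≫ Sigma.ι (fun i => (E.obj i).left) i ≫ q := by
    intro T i j x₀ x₁ h v
    have h' : (x₀ ≫ Sigma.ι X i) ≫ Sigma.desc f = (x₁ ≫ Sigma.ι X j) ≫ Sigma.desc f := by
      rw [Category.assoc, Category.assoc, Sigma.ι_desc, Sigma.ι_desc, h]
    have hv0 : v.1 ≫ strMap E i = x₀ := v.2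
    obtain ⟨vv, hvv⟩ : ∃ vv : Lifts (sigmaDD E).obj (x₀ ≫ Sigma.ι X i),
        vv.1 = v.1 ≫ Sigma.ι (fun i => (E.obj i).left) i := by
      refine ⟨⟨v.1 ≫ Sigma.ι (fun i => (E.obj i).left) i, ?_⟩, rfl⟩
      change (v.1 ≫ Sigma.ι (fun i => (E.obj i).left) i) ≫ Limits.Sigma.map (strMap E) = _
      rw [Category.assoc, Limits.Sigma.ι_map, ← Category.assoc, hv0]
    have e1 := sigmaDD_phi E x₀ x₁ h h' v vv hvv
    have e2 := hinv _ _ h' vv
    rw [e1, hvv, Category.assoc, Category.assoc] at e2
    exact e2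
  refine ⟨Over.mk u, ⟨(PtEquiv.toIso ?_).symm⟩⟩
  exact
    { e := fun i T x =>
        { toFun := fun v => ⟨v.1 ≫ (k i).hom, by
            have hv0 : v.1 ≫ strMap E i = x := v.2
            change (v.1 ≫ (k i).hom) ≫ pullback.fst (f i) u = x
            rw [Category.assoc, hk1 i, hv0]⟩
          invFun := fun c => ⟨c.1 ≫ (k i).inv, by
            have hc0 : c.1 ≫ pullback.fst (f i) u = x := c.2
            change (c.1 ≫ (k i).inv) ≫ strMap E i = x
            rw [Category.assoc, hk1' i, hc0]⟩
          left_inv := fun v => Subtype.ext (by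
            change (v.1 ≫ (k i).hom) ≫ (k i).inv = v.1
            rw [Category.assoc, Iso.hom_inv_id, Category.comp_id])
          right_inv := fun c => Subtype.ext (by
            change (c.1 ≫ (k i).inv) ≫ (k i).hom = c.1
            rw [Category.assoc, Iso.inv_hom_id, Category.comp_id]) }
      natural := fun i T T' g x y hy v v' hv' => by
        change v'.1 ≫ (k i).hom = g ≫ v.1 ≫ (k i).hom
        rw [hv', Category.assoc]
      comm := fun T i j x₀ x₁ h v => by
        apply Subtype.ext
        change (pullback.lift x₁ ((v.1 ≫ (k i).hom) ≫ pullback.snd (f i) u) _ : T ⟶ pullback (f j) u) =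
          (E.φ x₀ x₁ h v).1 ≫ (k j).hom
        apply pullback.hom_ext
        · rw [pullback.lift_fst, Category.assoc, hk1 j]
          exact ((E.φ x₀ x₁ h v).2).symm
        · rw [pullback.lift_snd, Category.assoc, hk2 i, Category.assoc, hk2 j]
          exact (hcomp x₀ x₁ h v).symm }

end Groth.Agent.Lib.Helper28.EffDescQ
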