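import Groth.Agent.Lib.Helper28.EffDesc.FppfLqf
import Groth.Agent.Lib.Helper28.EffDescQ.Glue
import Groth.Agent.Lib.Helper28.EffDescQ.TransferCoverQ
import Groth.Agent.Lib.Helper28.EffDescQ.SigmaEff

/-!
# Effective descent (helper28): reduction of effectivity for fpqc covering families to the affine case
-/

set_option autoImplicit false
set_option maxHeartbeats 3200000
set_option backward.isDefEq.respectTransparency false
set_option backward.isDefEq.respectTransparency.types false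
universe u
open CategoryTheory CategoryTheory.Limits AlgebraicGeometry

namespace Groth.Agent.Lib.Helper28.EffDescQ

open Desc

variable (P : MorphismProperty Scheme.{u}) [P.IsStableUnderBaseChange]
  (h2 : ∀ (m : ℕ) (Y V : Fin m → Scheme.{u}) (q : ∀ j, Y j ⟶ V j), (∀ j, P (q j)) →
    P (Limits.Sigma.map q))
  (h3 : ∀ (X S : Scheme.{u}) (p : X ⟶ S), IsAffine X → IsAffine S → Flat p → Surjective p →
    ∀ D : Desc.SchDD p, P D.obj.hom → ∃ U : Over S, Nonempty ((Desc.toDD p).obj U ≅ D))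
  {ι : Type u} {S : Scheme.{u}} {U : ι → Scheme.{u}} (u : ∀ i, U i ⟶ S)
  (hu : Presieve.ofArrows U u ∈ Scheme.fpqcPrecoverage S) (D : Desc.SchDDFam u)
  (hD : ∀ i, P (D.obj i).hom)

include h2 h3 hu hD in
theorem localQuot_sigma {O : S.Opens} (hO : IsAffineOpen O) :
    EffDesc.LocalQuot (sigmaDD D) O.ι := by
  haveI : IsAffine (O : Scheme.{u}) := hO
  have hflat : ∀ i, Flat (u i) := ((Scheme.ofArrows_mem_precoverage_iff (P := @Flat)).1 hu.2).2
  -- the family pulled back to `O`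
  have hO' : Presieve.ofArrows (fun i => pullback (u i) O.ι) (fun i => pullback.snd (u i) O.ι) ∈
      Scheme.fpqcPrecoverage (O : Scheme.{u}) :=
    Precoverage.mem_coverings_of_isPullback u hu O.ι (fun i => pullback.snd (u i) O.ι)
      (fun i => pullback.fst (u i) O.ι) (fun i => (IsPullback.of_hasPullback (u i) O.ι).flip)
  have hqc : QuasiCompactCover (PreZeroHypercover.mk ι (fun i => pullback (u i) O.ι)
      (fun i => pullback.snd (u i) O.ι)) := Scheme.presieve₀_mem_qcPrecoverage_iff.mp hO'.1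
  obtain ⟨n, idx, V, hV, hcov⟩ := QuasiCompactCover.exists_isAffineOpen_of_isCompact
    (PreZeroHypercover.mk ι (fun i => pullback (u i) O.ι) (fun i => pullback.snd (u i) O.ι))
    (show IsCompact (⊤ : TopologicalSpace.Opens (O : Scheme.{u})).carrier from isCompact_univ)
  change ∀ r, (pullback (u (idx r)) O.ι).Opens at V
  haveI : ∀ r, IsAffine ((V r : (pullback (u (idx r)) O.ι).Opens) : Scheme.{u}) := hV
  haveI : ∀ r, Flat (pullback.snd (u (idx r)) O.ι) := fun r =>
    MorphismProperty.pullback_snd (P := @Flat) _ _ (hflat _)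
  -- the restriction of the datum to `O`
  have w₁ : pullback.snd (Sigma.desc u) O.ι ≫ O.ι = pullback.fst (Sigma.desc u) O.ι ≫ Sigma.desc u :=
    pullback.condition.symm
  -- the affine refinement
  have hcond : ∀ r : Fin n,
      ((V r).ι ≫ pullback.fst (u (idx r)) O.ι ≫ Sigma.ι U (idx r)) ≫ Sigma.desc u =
        ((V r).ι ≫ pullback.snd (u (idx r)) O.ι) ≫ O.ι := by
    intro r
    simp only [Category.assoc, Sigma.ι_desc, pullback.condition]
  obtain ⟨g₀, hg₀⟩ : ∃ g₀ : (∐ fun r : Fin n => ((V r : (pullback (u (idx r)) O.ι).Opens) : Scheme.{u})) ⟶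
      pullback (Sigma.desc u) O.ι, g₀ = Sigma.desc (fun r => pullback.lift
        ((V r).ι ≫ pullback.fst (u (idx r)) O.ι ≫ Sigma.ι U (idx r))
        ((V r).ι ≫ pullback.snd (u (idx r)) O.ι) (hcond r)) := ⟨_, rfl⟩
  have hg01 : g₀ ≫ pullback.fst (Sigma.desc u) O.ι =
      Sigma.desc (fun r => ((V r).ι ≫ pullback.fst (u (idx r)) O.ι) ≫ Sigma.ι U (idx r)) := by
    rw [hg₀]
    apply Sigma.hom_ext
    intro r
    rw [Sigma.ι_desc_assoc, pullback.lift_fst, Sigma.ι_desc, Category.assoc]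
  obtain ⟨p₀, hp₀⟩ : ∃ p₀ : (∐ fun r : Fin n => ((V r : (pullback (u (idx r)) O.ι).Opens) : Scheme.{u})) ⟶
      (O : Scheme.{u}), p₀ = g₀ ≫ pullback.snd (Sigma.desc u) O.ι := ⟨_, rfl⟩
  have hp₀' : p₀ = Sigma.desc (fun r => (V r).ι ≫ pullback.snd (u (idx r)) O.ι) := by
    rw [hp₀, hg₀]
    apply Sigma.hom_ext
    intro r
    rw [Sigma.ι_desc_assoc, pullback.lift_snd, Sigma.ι_desc]
  haveI : Flat p₀ := by
    rw [hp₀']
    exact IsZariskiLocalAtSource.sigmaDesc (fun r => inferInstance)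
  haveI : Surjective p₀ := by
    refine ⟨fun s => ?_⟩
    have hs : s ∈ ((⊤ : TopologicalSpace.Opens (O : Scheme.{u})) : Set (O : Scheme.{u})) := trivial
    rw [← hcov] at hs
    obtain ⟨r, y, hy, hys⟩ := Set.mem_iUnion.mp hs
    refine ⟨(Sigma.ι (fun r : Fin n => ((V r : (pullback (u (idx r)) O.ι).Opens) : Scheme.{u})) r)
      ⟨y, hy⟩, ?_⟩
    rw [hp₀', ← Scheme.Hom.comp_apply, Sigma.ι_desc, Scheme.Hom.comp_apply]
    exact hys
  haveI : QuasiCompact p₀ :=
    (HasAffineProperty.iff_of_isAffine (P := @QuasiCompact)).mpr inferInstance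
  have w₀ : p₀ ≫ 𝟙 (O : Scheme.{u}) = g₀ ≫ pullback.snd (Sigma.desc u) O.ι := by
    rw [Category.comp_id, hp₀]
  -- the property `P` of the restricted datum
  have hP₀ : P (EffDesc.pullDD g₀ (𝟙 (O : Scheme.{u})) w₀
      (EffDesc.pullDD (pullback.fst (Sigma.desc u) O.ι) O.ι w₁ (sigmaDD D))).obj.hom := by
    change P (pullback.snd (pullback.snd (Limits.Sigma.map (strMap D))
      (pullback.fst (Sigma.desc u) O.ι)) g₀)
    have sq1 := (IsPullback.of_hasPullback (pullback.snd (Limits.Sigma.map (strMap D))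
      (pullback.fst (Sigma.desc u) O.ι)) g₀).paste_horiz
      (IsPullback.of_hasPullback (Limits.Sigma.map (strMap D)) (pullback.fst (Sigma.desc u) O.ι))
    rw [hg01] at sq1
    have sq2 := isPullback_sigmaMap_sigmaDesc (strMap D) idx
      (fun r => (V r).ι ≫ pullback.fst (u (idx r)) O.ι)
    have hsnd := sq1.isoIsPullback_hom_snd _ _ sq2
    rw [← hsnd, P.cancel_left_of_respectsIso]
    exact h2 n _ _ _ (fun r => MorphismProperty.pullback_snd (P := P) _ _ (hD (idx r)))
  obtain ⟨U₀, ⟨e⟩⟩ := h3 _ _ p₀ inferInstance inferInstance inferInstance inferInstance _ hP₀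
  obtain ⟨q₀, hpb₀, hinv₀⟩ := EffDesc.quot_of_effective _ U₀ e
  obtain ⟨q₁, hpb₁, hinv₁⟩ := transfer_cover_qc g₀ p₀ w₀ _ U₀.hom q₀ hpb₀ hinv₀
  exact EffDesc.transfer (pullback.fst (Sigma.desc u) O.ι) O.ι w₁ (sigmaDD D) (𝟙 _)
    (Category.id_comp _) (Category.id_comp _) U₀.hom q₁ hpb₁ hinv₁

include h2 h3 hu hD in
/-- **Effectivity for fpqc covering families reduces to the affine case.** -/
theorem schDDFam_effective_of_fpqc : D.IsEffective := by
  have hp : GoodCov (Sigma.desc u) := goodCov_sigmaDesc u hu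
  obtain ⟨W, w, q, hpb, hinv⟩ := exists_quot_of_local (sigmaDD D) hp
    (fun W => localQuot_sigma P h2 h3 u hu D hD W.2)
  exact effective_of_sigma_quot D w q hpb hinv

end Groth.Agent.Lib.Helper28.EffDescQ
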