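import Groth.Agent.Lib.Helper16.DescPt
import Groth.Agent.Lib.Helper28.EffDescQ.SigmaDD

/-!
# Effective descent (helper28): descent data relative to a family and relative to the disjoint union

The pullback functor from descent data relative to `Sigma.desc f : ∐ X ⟶ S` to descent data relative to the family
`f` is an equivalence of categories.
-/

set_option autoImplicit false
set_option maxHeartbeats 1600000
set_option backward.isDefEq.respectTransparency false
set_option backward.isDefEq.respectTransparency.types false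
universe u
open CategoryTheory CategoryTheory.Limits AlgebraicGeometry

namespace Groth.Agent.Lib.Helper28.EffDescQ

open Desc Groth.Agent.Lib.Helper16

variable {ι : Type u} {S : Scheme.{u}} {X : ι → Scheme.{u}} (f : ∀ i, X i ⟶ S)

/-- the comparison functor from descent data relative to `∐ X ⟶ S` to descent data relative to the family -/
noncomputable abbrev sigmaPull : SchDD (Sigma.desc f) ⥤ SchDDFam f :=
  Desc.SchDDFam.ofSchDD (Sigma.desc f) ⋙
    Desc.pullDDFam (f := fun _ : PUnit.{u + 1} => Sigma.desc f) (f' := f) (α := fun _ => PUnit.unit)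
      (p := 𝟙 S) (p' := fun i => Sigma.ι X i)
      (fun i => (Sigma.ι_desc f i).trans (Category.comp_id (f i)).symm)

/-- the points of the restriction to a component -/
noncomputable def ptE (D : SchDD (Sigma.desc f)) (i : ι) {T : Scheme.{u}} (x : T ⟶ X i) :
    Lifts (((sigmaPull f).obj D).obj i) x ≃ Lifts D.obj (x ≫ Sigma.ι X i) :=
  liftsPullbackEquiv D.obj (Sigma.ι X i) x

theorem ptE_val (D : SchDD (Sigma.desc f)) (i : ι) {T : Scheme.{u}} (x : T ⟶ X i)
    (v : Lifts (((sigmaPull f).obj D).obj i) x) :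
    (ptE f D i x v).1 = v.1 ≫ pullback.fst D.obj.hom (Sigma.ι X i) := rfl

theorem ptE_symm_val (D : SchDD (Sigma.desc f)) (i : ι) {T : Scheme.{u}} (x : T ⟶ X i)
    (c : Lifts D.obj (x ≫ Sigma.ι X i)) :
    ((ptE f D i x).symm c).1 = pullback.lift c.1 x c.2 := rfl

theorem sigmaPull_φ (D : SchDD (Sigma.desc f)) {T : Scheme.{u}} {i j : ι} (x₀ : T ⟶ X i)
    (x₁ : T ⟶ X j) (h : x₀ ≫ f i = x₁ ≫ f j)
    (hh : (x₀ ≫ Sigma.ι X i) ≫ Sigma.desc f = (x₁ ≫ Sigma.ι X j) ≫ Sigma.desc f)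
    (v : Lifts (((sigmaPull f).obj D).obj i) x₀) :
    ((sigmaPull f).obj D).φ x₀ x₁ h v =
      (ptE f D j x₁).symm (D.φ (x₀ ≫ Sigma.ι X i) (x₁ ≫ Sigma.ι X j) hh (ptE f D i x₀ v)) := rfl

theorem sigmaPull_φ_fst (D : SchDD (Sigma.desc f)) {T : Scheme.{u}} {i j : ι} (x₀ : T ⟶ X i)
    (x₁ : T ⟶ X j) (h : x₀ ≫ f i = x₁ ≫ f j)
    (hh : (x₀ ≫ Sigma.ι X i) ≫ Sigma.desc f = (x₁ ≫ Sigma.ι X j) ≫ Sigma.desc f)
    (v : Lifts (((sigmaPull f).obj D).obj i) x₀) :
    (((sigmaPull f).obj D).φ x₀ x₁ h v).1 ≫ pullback.fst D.obj.hom (Sigma.ι X j) =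
      (D.φ (x₀ ≫ Sigma.ι X i) (x₁ ≫ Sigma.ι X j) hh (ptE f D i x₀ v)).1 :=
  pullback.lift_fst _ _ _

theorem hh_of {T : Scheme.{u}} {i j : ι} (x₀ : T ⟶ X i) (x₁ : T ⟶ X j) (h : x₀ ≫ f i = x₁ ≫ f j) :
    (x₀ ≫ Sigma.ι X i) ≫ Sigma.desc f = (x₁ ≫ Sigma.ι X j) ≫ Sigma.desc f := by
  rw [Category.assoc, Category.assoc, Sigma.ι_desc, Sigma.ι_desc, h]

section EssSurj

variable {f} (E : SchDDFam f)

/-- points of the disjoint union over a point of a component -/
noncomputable def compEquiv (i : ι) {T : Scheme.{u}} (x : T ⟶ X i) :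
    Lifts (sigmaDD E).obj (x ≫ Sigma.ι X i) ≃ Lifts (E.obj i) x where
  toFun c := ⟨(isPullback_sigmaι_map (strMap E) i).lift c.1 x c.2,
    (isPullback_sigmaι_map (strMap E) i).lift_snd _ _ _⟩
  invFun v := ⟨v.1 ≫ Sigma.ι (fun i => (E.obj i).left) i, by
    have hv0 : v.1 ≫ strMap E i = x := v.2
    change (v.1 ≫ Sigma.ι (fun i => (E.obj i).left) i) ≫ Limits.Sigma.map (strMap E) =
      x ≫ Sigma.ι X i
    rw [Category.assoc, Limits.Sigma.ι_map, ← Category.assoc, hv0]⟩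
  left_inv c := Subtype.ext ((isPullback_sigmaι_map (strMap E) i).lift_fst _ _ _)
  right_inv v := Subtype.ext (by
    rw [← cancel_mono (Sigma.ι (fun i => (E.obj i).left) i)]
    exact (isPullback_sigmaι_map (strMap E) i).lift_fst _ _ _)

theorem compEquiv_val (i : ι) {T : Scheme.{u}} (x : T ⟶ X i)
    (c : Lifts (sigmaDD E).obj (x ≫ Sigma.ι X i)) :
    (compEquiv E i x c).1 ≫ Sigma.ι (fun i => (E.obj i).left) i = c.1 :=
  (isPullback_sigmaι_map (strMap E) i).lift_fst _ _ _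

/-- the restriction of the disjoint union to the components is the original datum -/
noncomputable def sigmaPtEquiv : PtEquiv ((sigmaPull f).obj (sigmaDD E)) E where
  e i T x := (ptE f (sigmaDD E) i x).trans (compEquiv E i x)
  natural i T T' g x y hy v v' hv' := by
    rw [← cancel_mono (Sigma.ι (fun i => (E.obj i).left) i), Category.assoc]
    simp only [Equiv.trans_apply]
    rw [compEquiv_val, compEquiv_val, ptE_val, ptE_val, hv', Category.assoc]
  comm T i j x₀ x₁ h v := by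
    rw [sigmaPull_φ f (sigmaDD E) x₀ x₁ h (hh_of f x₀ x₁ h) v]
    simp only [Equiv.trans_apply, Equiv.apply_symm_apply]
    apply Subtype.ext
    rw [← cancel_mono (Sigma.ι (fun i => (E.obj i).left) j), compEquiv_val]
    exact (sigmaDD_phi E x₀ x₁ h _ _ _ (compEquiv_val E i x₀ _).symm).symm

end EssSurj

theorem sigmaPull_faithful : (sigmaPull f).Faithful where
  map_injective {D D'} a b hab := by
    apply SchDD.hom_ext
    apply Over.OverMorphism.ext
    apply sigma_loc X D.obj.hom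
    intro i
    have h1 := congrArg (fun t : (sigmaPull f).obj D ⟶ (sigmaPull f).obj D' =>
      (t.hom i).left ≫ pullback.fst D'.obj.hom (Sigma.ι X i)) hab
    have ea : (((sigmaPull f).map a).hom i).left ≫ pullback.fst D'.obj.hom (Sigma.ι X i) =
        pullback.fst D.obj.hom (Sigma.ι X i) ≫ a.hom.left := pullback.lift_fst _ _ _
    have eb : (((sigmaPull f).map b).hom i).left ≫ pullback.fst D'.obj.hom (Sigma.ι X i) =
        pullback.fst D.obj.hom (Sigma.ι X i) ≫ b.hom.left := pullback.lift_fst _ _ _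
    exact ea.symm.trans (h1.trans eb)

theorem sigmaPull_full : (sigmaPull f).Full where
  map_surjective {D D'} b := by
    obtain ⟨a₀, ha₀⟩ := sigma_glue X D.obj.hom
      (fun i => (b.hom i).left ≫ pullback.fst D'.obj.hom (Sigma.ι X i))
    have hb : ∀ i, (b.hom i).left ≫ pullback.snd D'.obj.hom (Sigma.ι X i) =
        pullback.snd D.obj.hom (Sigma.ι X i) := fun i => Over.w (b.hom i)
    have hover : a₀ ≫ D'.obj.hom = D.obj.hom := by
      apply sigma_loc X D.obj.hom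
      intro i
      rw [← Category.assoc, ha₀ i, Category.assoc, pullback.condition, ← Category.assoc, hb i,
        pullback.condition]
    have hcomm : ∀ ⦃T : Scheme.{u}⦄ (x₀ x₁ : T ⟶ ∐ X) (h : x₀ ≫ Sigma.desc f = x₁ ≫ Sigma.desc f)
        (v : Lifts D.obj x₀) (w : Lifts D'.obj x₀), w.1 = v.1 ≫ a₀ →
        (D'.φ x₀ x₁ h w).1 = (D.φ x₀ x₁ h v).1 ≫ a₀ := by
      intro T x₀ x₁ h v w hw
      apply sigma_loc' X x₀
      intro T₁ t₁ i x₀' hx₀
      apply sigma_loc' X (t₁ ≫ x₁)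
      intro T₂ t₂ j y₁ hx₁
      have ht0 : (t₂ ≫ t₁) ≫ x₀ = (t₂ ≫ x₀') ≫ Sigma.ι X i := by
        rw [Category.assoc, hx₀, Category.assoc]
      have ht1 : (t₂ ≫ t₁) ≫ x₁ = y₁ ≫ Sigma.ι X j := by
        rw [Category.assoc, hx₁]
      have hh : ((t₂ ≫ x₀') ≫ Sigma.ι X i) ≫ Sigma.desc f = (y₁ ≫ Sigma.ι X j) ≫ Sigma.desc f :=
        calc ((t₂ ≫ x₀') ≫ Sigma.ι X i) ≫ Sigma.desc f = ((t₂ ≫ t₁) ≫ x₀) ≫ Sigma.desc f := by
              rw [ht0]
          _ = (t₂ ≫ t₁) ≫ x₀ ≫ Sigma.desc f := Category.assoc _ _ _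
          _ = (t₂ ≫ t₁) ≫ x₁ ≫ Sigma.desc f := by rw [h]
          _ = ((t₂ ≫ t₁) ≫ x₁) ≫ Sigma.desc f := (Category.assoc _ _ _).symm
          _ = (y₁ ≫ Sigma.ι X j) ≫ Sigma.desc f := by rw [ht1]
      have hyy : (t₂ ≫ x₀') ≫ f i = y₁ ≫ f j := by
        have := hh
        simp only [Category.assoc, Sigma.ι_desc] at this
        rw [Category.assoc]
        exact this
      obtain ⟨v', hv'⟩ : ∃ v' : Lifts D.obj ((t₂ ≫ x₀') ≫ Sigma.ι X i), v'.1 = (t₂ ≫ t₁) ≫ v.1 := by
        refine ⟨⟨(t₂ ≫ t₁) ≫ v.1, ?_⟩, rfl⟩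
        rw [Category.assoc, v.2, ht0]
      obtain ⟨w', hw'⟩ : ∃ w' : Lifts D'.obj ((t₂ ≫ x₀') ≫ Sigma.ι X i), w'.1 = (t₂ ≫ t₁) ≫ w.1 := by
        refine ⟨⟨(t₂ ≫ t₁) ≫ w.1, ?_⟩, rfl⟩
        rw [Category.assoc, w.2, ht0]
      have nat1 : (D.φ _ _ hh v').1 = (t₂ ≫ t₁) ≫ (D.φ x₀ x₁ h v).1 :=
        EffDesc.phi_natural' D (t₂ ≫ t₁) x₀ x₁ h _ _ ht0 ht1 hh v v' hv'
      have nat2 : (D'.φ _ _ hh w').1 = (t₂ ≫ t₁) ≫ (D'.φ x₀ x₁ h w).1 :=
        EffDesc.phi_natural' D' (t₂ ≫ t₁) x₀ x₁ h _ _ ht0 ht1 hh w w' hw'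
      have hvw : ((ptE f D' i (t₂ ≫ x₀')).symm w').1 =
          ((ptE f D i (t₂ ≫ x₀')).symm v').1 ≫ (b.hom i).left := by
        rw [ptE_symm_val, ptE_symm_val]
        apply pullback.hom_ext
        · calc pullback.lift w'.1 (t₂ ≫ x₀') w'.2 ≫ pullback.fst D'.obj.hom (Sigma.ι X i) = w'.1 :=
                pullback.lift_fst _ _ _
            _ = v'.1 ≫ a₀ := by
                rw [hw', hv', hw]
                exact (Category.assoc _ _ _).symm
            _ = (pullback.lift v'.1 (t₂ ≫ x₀') v'.2 ≫ pullback.fst D.obj.hom (Sigma.ι X i)) ≫ a₀ := by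
                rw [pullback.lift_fst]
            _ = pullback.lift v'.1 (t₂ ≫ x₀') v'.2 ≫ (b.hom i).left ≫
                  pullback.fst D'.obj.hom (Sigma.ι X i) :=
                (Category.assoc _ _ _).trans
                  (congrArg (pullback.lift v'.1 (t₂ ≫ x₀') v'.2 ≫ ·) (ha₀ i))
            _ = _ := (Category.assoc _ _ _).symm
        · exact (pullback.lift_snd _ _ _).trans (Eq.symm ((Category.assoc _ _ _).trans
            ((congrArg (pullback.lift v'.1 (t₂ ≫ x₀') v'.2 ≫ ·) (hb i)).trans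
              (pullback.lift_snd _ _ _))))
      have key := b.comm (t₂ ≫ x₀') y₁ hyy ((ptE f D i (t₂ ≫ x₀')).symm v')
        ((ptE f D' i (t₂ ≫ x₀')).symm w') hvw
      have kL : (((sigmaPull f).obj D').φ (t₂ ≫ x₀') y₁ hyy ((ptE f D' i (t₂ ≫ x₀')).symm w')).1 ≫
          pullback.fst D'.obj.hom (Sigma.ι X j) = (D'.φ _ _ hh w').1 := by
        rw [sigmaPull_φ_fst f D' _ _ hyy hh, Equiv.apply_symm_apply]
      have kR : (((sigmaPull f).obj D).φ (t₂ ≫ x₀') y₁ hyy ((ptE f D i (t₂ ≫ x₀')).symm v')).1 ≫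
          pullback.fst D.obj.hom (Sigma.ι X j) = (D.φ _ _ hh v').1 := by
        rw [sigmaPull_φ_fst f D _ _ hyy hh, Equiv.apply_symm_apply]
      have main : (D'.φ _ _ hh w').1 = (D.φ _ _ hh v').1 ≫ a₀ := by
        rw [← kL, key, ← kR]
        exact (Category.assoc _ _ _).trans ((congrArg (_ ≫ ·) (ha₀ j).symm).trans
          (Category.assoc _ _ _).symm)
      rw [nat1, nat2] at main
      simpa only [Category.assoc] using main
    refine ⟨⟨Over.homMk a₀ hover, fun T x₀ x₁ h v w hw => hcomm x₀ x₁ h v w hw⟩, ?_⟩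
    apply SchDDFam.hom_ext
    funext i
    apply Over.OverMorphism.ext
    apply pullback.hom_ext
    · exact (pullback.lift_fst _ _ _).trans (ha₀ i)
    · refine (pullback.lift_snd _ _ _).trans ?_
      rw [Category.comp_id]
      exact (hb i).symm

/-- **Descent data relative to a family are descent data relative to the disjoint union.** -/
theorem sigmaPull_isEquivalence : (sigmaPull f).IsEquivalence :=
  { faithful := sigmaPull_faithful f
    full := sigmaPull_full f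
    essSurj := ⟨fun E => ⟨sigmaDD E, ⟨(sigmaPtEquiv E).toIso⟩⟩⟩ }

end Groth.Agent.Lib.Helper28.EffDescQ
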