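import Groth.Agent.Lib.Helper16.DescFF
import Groth.Agent.Lib.Helper28.EffDescQ.SectionQ
import Groth.Agent.Lib.Helper28.EffDescQ.DescendDD
import Groth.Agent.Lib.Helper28.EffDescQ.SigmaEquiv

/-!
# Effective descent (helper28): pullback of descent data along a Zariski refinement is an equivalence
-/

set_option autoImplicit false
set_option maxHeartbeats 3200000
set_option backward.isDefEq.respectTransparency false
set_option backward.isDefEq.respectTransparency.types false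
universe u
open CategoryTheory CategoryTheory.Limits AlgebraicGeometry

namespace Groth.Agent.Lib.Helper28.EffDescQ

open Desc Groth.Agent.Lib.Helper16 Groth.Agent.Lib.Helper28.EffDesc

/-- a descent datum relative to `p' = G ≫ p`, where `G` is a `GoodCov` with Zariski-local sections, descends to a
descent datum relative to `p` -/
theorem exists_descDD {X' X S : Scheme.{u}} {G : X' ⟶ X} {p : X ⟶ S} {p' : X' ⟶ S}
    (hGp : G ≫ p = p') (hG : GoodCov G)
    (hsec : ∀ y : X, ∃ (W : X.Opens) (s : (W : Scheme.{u}) ⟶ X'), y ∈ W ∧ s ≫ G = W.ι)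
    (D : SchDD p') :
    ∃ (D' : SchDD p) (q : D.obj.left ⟶ D'.obj.left), IsPullback D.obj.hom q G D'.obj.hom ∧
      ∀ ⦃T : Scheme.{u}⦄ (x₀ x₁ : T ⟶ X') (h : x₀ ≫ p' = x₁ ≫ p')
        (h' : (x₀ ≫ G) ≫ p = (x₁ ≫ G) ≫ p) (v : Lifts D.obj x₀) (c : Lifts D'.obj (x₀ ≫ G)),
        c.1 = v.1 ≫ q → (D'.φ (x₀ ≫ G) (x₁ ≫ G) h' c).1 = (D.φ x₀ x₁ h v).1 ≫ q := by
  subst hGp
  obtain ⟨F, a', q, hpb, hinv⟩ := exists_quot_of_local_sections_good (restrictG D) hG hsec
  exact ⟨descDD ⟨F, a', q, hpb, fun T x₀ x₁ h hG' v => hinv x₀ x₁ hG' v, hG⟩, q, hpb,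
    fun T x₀ x₁ h h' v c hc => descDD_phi _ x₀ x₁ h h' v c hc⟩

/-- points of a cartesian quotient -/
noncomputable def quotEquiv {X' X : Scheme.{u}} {G : X' ⟶ X} (A : Over X') (B : Over X)
    (q : A.left ⟶ B.left) (hpb : IsPullback A.hom q G B.hom) {T : Scheme.{u}} (y : T ⟶ X')
    (y' : T ⟶ X) (hy : y ≫ G = y') : Lifts B y' ≃ Lifts A y where
  toFun c := ⟨hpb.lift y c.1 (hy.trans c.2.symm), hpb.lift_fst _ _ _⟩
  invFun v := ⟨v.1 ≫ q, by
    have hv0 : v.1 ≫ A.hom = y := v.2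
    exact (Category.assoc _ _ _).trans ((congrArg (v.1 ≫ ·) hpb.w.symm).trans
      ((Category.assoc _ _ _).symm.trans ((congrArg (· ≫ G) hv0).trans hy)))⟩
  left_inv c := Subtype.ext (hpb.lift_snd _ _ _)
  right_inv v := Subtype.ext (hpb.hom_ext ((hpb.lift_fst _ _ _).trans v.2.symm)
    (hpb.lift_snd _ _ _))

theorem quotEquiv_val {X' X : Scheme.{u}} {G : X' ⟶ X} (A : Over X') (B : Over X)
    (q : A.left ⟶ B.left) (hpb : IsPullback A.hom q G B.hom) {T : Scheme.{u}} (y : T ⟶ X')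
    (y' : T ⟶ X) (hy : y ≫ G = y') (c : Lifts B y') :
    (quotEquiv A B q hpb y y' hy c).1 ≫ q = c.1 := hpb.lift_snd _ _ _

theorem quotEquiv_fst {X' X : Scheme.{u}} {G : X' ⟶ X} (A : Over X') (B : Over X)
    (q : A.left ⟶ B.left) (hpb : IsPullback A.hom q G B.hom) {T : Scheme.{u}} (y : T ⟶ X')
    (y' : T ⟶ X) (hy : y ≫ G = y') (c : Lifts B y') :
    (quotEquiv A B q hpb y y' hy c).1 ≫ A.hom = y := hpb.lift_fst _ _ _

section Zar

variable {ι κ : Type u} {S : Scheme.{u}} {U : ι → Scheme.{u}} {V : κ → Scheme.{u}}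
  (u : ∀ i, U i ⟶ S) (v : ∀ j, V j ⟶ S) (α : ι → κ) (g : ∀ i, U i ⟶ V (α i))
  (w : ∀ i, g i ≫ v (α i) = u i)
  (hcov : ∀ j, Presieve.ofArrows (fun i : {i // α i = j} => U i.1)
    (fun i => g i.1 ≫ eqToHom (congrArg V i.2)) ∈ Scheme.zariskiPrecoverage (V j))

/-- the morphism of disjoint unions -/
noncomputable def sigmaG : (∐ U) ⟶ ∐ V := Sigma.desc (fun i => g i ≫ Sigma.ι V (α i))

theorem ι_sigmaG (i : ι) : Sigma.ι U i ≫ sigmaG α g = g i ≫ Sigma.ι V (α i) := Sigma.ι_desc _ _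

include w in
theorem sigmaG_desc : sigmaG α g ≫ Sigma.desc v = Sigma.desc u := by
  apply Sigma.hom_ext
  intro i
  rw [← Category.assoc, ι_sigmaG, Category.assoc, Sigma.ι_desc, Sigma.ι_desc, w]

include hcov in
theorem isOpenImmersion_g (i : ι) : IsOpenImmersion (g i) := by
  have h := ((Scheme.ofArrows_mem_precoverage_iff (P := @IsOpenImmersion)).1 (hcov (α i))).2 ⟨i, rfl⟩
  simpa using h

include hcov in
theorem zariski_mem :
    Presieve.ofArrows U (fun i => g i ≫ Sigma.ι V (α i)) ∈ Scheme.zariskiPrecoverage (∐ V) := by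
  rw [Scheme.ofArrows_mem_precoverage_iff]
  refine ⟨fun y => ?_, fun i => ?_⟩
  · obtain ⟨j, y', rfl⟩ := (sigmaOpenCover V).exists_eq y
    obtain ⟨⟨i, rfl⟩, z, hz⟩ :=
      ((Scheme.ofArrows_mem_precoverage_iff (P := @IsOpenImmersion)).1 (hcov j)).1 y'
    refine ⟨i, z, ?_⟩
    simp only [eqToHom_refl, Category.comp_id] at hz
    rw [Scheme.Hom.comp_apply, hz]
    rfl
  · haveI := isOpenImmersion_g α g hcov i
    infer_instance

include hcov in
theorem goodCov_sigmaG : GoodCov (sigmaG α g) :=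
  goodCov_sigmaDesc _ (Scheme.zariskiPrecoverage_le_fpqcPrecoverage _ (zariski_mem α g hcov))

include hcov in
theorem sigmaG_sections (y : (∐ V : Scheme.{u})) :
    ∃ (W : (∐ V : Scheme.{u}).Opens) (s : (W : Scheme.{u}) ⟶ ∐ U), y ∈ W ∧ s ≫ sigmaG α g = W.ι := by
  obtain ⟨i, z, hz⟩ :=
    ((Scheme.ofArrows_mem_precoverage_iff (P := @IsOpenImmersion)).1 (zariski_mem α g hcov)).1 y
  haveI : IsOpenImmersion (g i ≫ Sigma.ι V (α i)) :=
    ((Scheme.ofArrows_mem_precoverage_iff (P := @IsOpenImmersion)).1 (zariski_mem α g hcov)).2 i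
  refine ⟨(g i ≫ Sigma.ι V (α i)).opensRange,
    (g i ≫ Sigma.ι V (α i)).isoOpensRange.inv ≫ Sigma.ι U i, ⟨z, hz⟩, ?_⟩
  rw [Category.assoc, ι_sigmaG]
  exact Scheme.Hom.isoOpensRange_inv_comp _

theorem hy_of {T : Scheme.{u}} (i : ι) (x : T ⟶ U i) :
    (x ≫ Sigma.ι U i) ≫ sigmaG α g = (x ≫ g i) ≫ Sigma.ι V (α i) := by
  rw [Category.assoc, ι_sigmaG, Category.assoc]

include hcov in
theorem pull_essSurj_aux (E : SchDDFam u) :
    ∃ F : SchDDFam v, Nonempty ((Desc.pullDDFam (f := v) (f' := u) (α := α) (p := 𝟙 S) (p' := g)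
      (fun i => (w i).trans (Category.comp_id (u i)).symm)).obj F ≅ E) := by
  obtain ⟨D', q, hpb, hφ⟩ := exists_descDD (sigmaG_desc u v α g w) (goodCov_sigmaG α g hcov)
    (sigmaG_sections α g hcov) (sigmaDD E)
  refine ⟨(sigmaPull v).obj D', ⟨PtEquiv.toIso ?_⟩⟩
  exact
    { e := fun i T x =>
        (pullLPE (fun i => (w i).trans (Category.comp_id (u i)).symm) ((sigmaPull v).obj D') i x).trans
          ((ptE v D' (α i) (x ≫ g i)).trans
            ((quotEquiv (sigmaDD E).obj D'.obj q hpb (x ≫ Sigma.ι U i)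
              ((x ≫ g i) ≫ Sigma.ι V (α i)) (hy_of α g i x)).trans (compEquiv E i x)))
      natural := fun i T T' g' x y hy' c c' hc' => by
        simp only [Equiv.trans_apply]
        refine (cancel_mono (Sigma.ι (fun i => (E.obj i).left) i)).1 ?_
        refine (compEquiv_val E i y _).trans (Eq.trans ?_
          ((congrArg (g' ≫ ·) (compEquiv_val E i x _)).symm.trans (Category.assoc _ _ _).symm))
        apply hpb.hom_ext
        · exact (quotEquiv_fst _ _ _ _ _ _ _ _).trans (Eq.symm ((Category.assoc _ _ _).trans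
            ((congrArg (g' ≫ ·) (quotEquiv_fst _ _ _ _ _ _ _ _)).trans
              ((Category.assoc _ _ _).symm.trans (congrArg (· ≫ Sigma.ι U i) hy')))))
        · refine (quotEquiv_val _ _ _ _ _ _ _ _).trans (Eq.symm ((Category.assoc _ _ _).trans
            ((congrArg (g' ≫ ·) (quotEquiv_val _ _ _ _ _ _ _ _)).trans ?_)))
          change g' ≫ (c.1 ≫ pullback.fst _ _) ≫ pullback.fst _ _ =
            (c'.1 ≫ pullback.fst _ _) ≫ pullback.fst _ _
          rw [hc']
          simp only [Category.assoc]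
      comm := fun T i j x₀ x₁ h c => by
        have hF : (x₀ ≫ g i) ≫ v (α i) = (x₁ ≫ g j) ≫ v (α j) := by
          rw [Category.assoc, Category.assoc, w, w, h]
        have hD' : ((x₀ ≫ g i) ≫ Sigma.ι V (α i)) ≫ Sigma.desc v =
            ((x₁ ≫ g j) ≫ Sigma.ι V (α j)) ≫ Sigma.desc v := hh_of v _ _ hF
        have e1 : ((Desc.pullDDFam (f := v) (f' := u) (α := α) (p := 𝟙 S) (p' := g)
            (fun i => (w i).trans (Category.comp_id (u i)).symm)).obj ((sigmaPull v).obj D')).φ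
              x₀ x₁ h c =
            (pullLPE (fun i => (w i).trans (Category.comp_id (u i)).symm) ((sigmaPull v).obj D')
              j x₁).symm ((ptE v D' (α j) (x₁ ≫ g j)).symm (D'.φ _ _ hD'
                (ptE v D' (α i) (x₀ ≫ g i)
                  (pullLPE (fun i => (w i).trans (Category.comp_id (u i)).symm)
                    ((sigmaPull v).obj D') i x₀ c)))) := by
          rw [pull_φ, sigmaPull_φ v D' _ _ hF hD']
        rw [e1]
        simp only [Equiv.trans_apply, Equiv.apply_symm_apply]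
        obtain ⟨c₀, hc₀⟩ : ∃ c₀ : Lifts D'.obj ((x₀ ≫ g i) ≫ Sigma.ι V (α i)),
            c₀ = ptE v D' (α i) (x₀ ≫ g i)
              (pullLPE (fun i => (w i).trans (Category.comp_id (u i)).symm)
                ((sigmaPull v).obj D') i x₀ c) := ⟨_, rfl⟩
        rw [← hc₀]
        obtain ⟨vS, hvS⟩ : ∃ vS : Lifts (sigmaDD E).obj (x₀ ≫ Sigma.ι U i),
            vS = quotEquiv (sigmaDD E).obj D'.obj q hpb (x₀ ≫ Sigma.ι U i)
              ((x₀ ≫ g i) ≫ Sigma.ι V (α i)) (hy_of α g i x₀) c₀ := ⟨_, rfl⟩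
        rw [← hvS]
        have hvq : vS.1 ≫ q = c₀.1 := by rw [hvS]; exact quotEquiv_val _ _ _ _ _ _ _ _
        apply Subtype.ext
        rw [← cancel_mono (Sigma.ι (fun i => (E.obj i).left) j), compEquiv_val]
        have k1 := sigmaDD_phi E x₀ x₁ h (hh_of u x₀ x₁ h) (compEquiv E i x₀ vS) vS
          (compEquiv_val E i x₀ vS).symm
        have h'' : ((x₀ ≫ Sigma.ι U i) ≫ sigmaG α g) ≫ Sigma.desc v =
            ((x₁ ≫ Sigma.ι U j) ≫ sigmaG α g) ≫ Sigma.desc v := by
          rw [hy_of, hy_of]; exact hD'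
        obtain ⟨cS, hcS⟩ : ∃ cS : Lifts D'.obj ((x₀ ≫ Sigma.ι U i) ≫ sigmaG α g), cS.1 = c₀.1 :=
          ⟨⟨c₀.1, c₀.2.trans (hy_of α g i x₀).symm⟩, rfl⟩
        have k2 := hφ (x₀ ≫ Sigma.ι U i) (x₁ ≫ Sigma.ι U j) (hh_of u x₀ x₁ h) h'' vS cS
          (hcS.trans hvq.symm)
        have k3 := phi_congr D' (hy_of α g i x₀) (hy_of α g j x₁) h'' hD' cS c₀ hcS
        apply hpb.hom_ext
        · rw [quotEquiv_fst]
          have e2 : (E.φ x₀ x₁ h (compEquiv E i x₀ vS)).1 ≫ strMap E j = x₁ :=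
            (E.φ x₀ x₁ h (compEquiv E i x₀ vS)).2
          change ((E.φ x₀ x₁ h (compEquiv E i x₀ vS)).1 ≫ Sigma.ι (fun i => (E.obj i).left) j) ≫
            Limits.Sigma.map (strMap E) = _
          rw [Category.assoc, Limits.Sigma.ι_map, ← Category.assoc, e2]
        · rw [quotEquiv_val, ← k3, k2, k1] }

include hcov in
/-- **Pullback of descent data along a Zariski refinement is an equivalence.** -/
theorem pull_isEquivalence_of_zariski :
    (Desc.pullDDFam (f := v) (f' := u) (α := α) (p := 𝟙 S) (p' := g)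
      (fun i => (w i).trans (Category.comp_id (u i)).symm)).IsEquivalence :=
  { faithful := (pull_full_faithful_of_refine _
      (fun j => Scheme.zariskiPrecoverage_le_fpqcPrecoverage _ (hcov j))).2
    full := (pull_full_faithful_of_refine _
      (fun j => Scheme.zariskiPrecoverage_le_fpqcPrecoverage _ (hcov j))).1
    essSurj := ⟨fun E => pull_essSurj_aux u v α g w hcov E⟩ }

end Zar

end Groth.Agent.Lib.Helper28.EffDescQ
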